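import Cfsg.Agent.Lib.Fi24J.ToddChecks
import Cfsg.Agent.Lib.Golay.Modules

/-!
The group of automorphisms of the even cocode of the Golay code preserving the duads is M24.
-/

set_option autoImplicit false

namespace CfsgLib.Fi24J

open Cfsg CfsgGolay

attribute [local irreducible] codeL maskT pairN

/-- The coordinate space. -/
abbrev V11 : Type := Fin 11 → ZMod 2

/-- The vector of a number. -/
def vec (n : ℕ) : V11 := fun i => if n.testBit i then 1 else 0

/-- The value of a point. -/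
def vp (p : GolayPt) : V11 := vec (valN (idx p))

/-- The duads. -/
def IsDuad (v : V11) : Prop := ∃ p q, p ≠ q ∧ v = vp p + vp q

theorem vec_xor (a b : ℕ) : vec (a ^^^ b) = vec a + vec b := by
  funext i
  simp only [vec, Pi.add_apply, Nat.testBit_xor]
  cases a.testBit i <;> cases b.testBit i <;> rfl

theorem vec_inj {a b : ℕ} (ha : a < 2048) (hb : b < 2048) (h : vec a = vec b) : a = b := by
  refine Nat.eq_of_testBit_eq fun i => ?_
  by_cases hi : i < 11
  · have := congrFun h ⟨i, hi⟩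
    simp only [vec] at this
    cases e1 : a.testBit i <;> cases e2 : b.testBit i <;> simp [e1, e2] at this ⊢
  · have hp : (2 : ℕ) ^ 11 ≤ 2 ^ i := Nat.pow_le_pow_right (by norm_num) (by omega)
    rw [Nat.testBit_lt_two_pow (ha.trans_le hp), Nat.testBit_lt_two_pow (hb.trans_le hp)]

theorem val_lt (i : ℕ) (hi : i < 24) : valN i < 2 ^ 11 :=
  Nat.blt_eq.mp (List.all_eq_true.mp pair_ok.2.2 i (List.mem_range.mpr hi))

theorem vp_add (p q : GolayPt) : vp p + vp q = vec (valN (idx p) ^^^ valN (idx q)) := (vec_xor _ _).symm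

theorem duad_code {p q : GolayPt} (h : p ≠ q) :
    isT (valN (idx p) ^^^ valN (idx q)) = true ∧
      ((pairAt (valN (idx p) ^^^ valN (idx q)) / 24 = idx p ∧ pairAt (valN (idx p) ^^^ valN (idx q)) % 24 = idx q) ∨
       (pairAt (valN (idx p) ^^^ valN (idx q)) / 24 = idx q ∧ pairAt (valN (idx p) ^^^ valN (idx q)) % 24 = idx p)) := by
  have h1 := List.all_eq_true.mp (List.all_eq_true.mp pair_ok.2.1 _ (List.mem_range.mpr (idx_lt p))) _
    (List.mem_range.mpr (idx_lt q))
  simp only [Bool.or_eq_true, Bool.and_eq_true, Nat.beq_eq] at h1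
  rcases h1 with h1 | h1
  · exact absurd (idx_inj.mp h1) h
  · exact h1

/-- A duad determines its points. -/
theorem duad_inj {p q r s : GolayPt} (h : p ≠ q) (h' : r ≠ s) (e : vp p + vp q = vp r + vp s) :
    (p = r ∧ q = s) ∨ (p = s ∧ q = r) := by
  rw [vp_add, vp_add] at e
  have e' := vec_inj (Nat.xor_lt_two_pow (val_lt _ (idx_lt p)) (val_lt _ (idx_lt q)))
    (Nat.xor_lt_two_pow (val_lt _ (idx_lt r)) (val_lt _ (idx_lt s))) e
  obtain ⟨-, h1⟩ := duad_code h
  obtain ⟨-, h2⟩ := duad_code h'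
  rw [e'] at h1
  rcases h1 with ⟨a, b⟩ | ⟨a, b⟩ <;> rcases h2 with ⟨c, d⟩ | ⟨c, d⟩
  · exact Or.inl ⟨idx_inj.mp (a.symm.trans c), idx_inj.mp (b.symm.trans d)⟩
  · exact Or.inr ⟨idx_inj.mp (a.symm.trans c), idx_inj.mp (b.symm.trans d)⟩
  · exact Or.inr ⟨idx_inj.mp (b.symm.trans d), idx_inj.mp (a.symm.trans c)⟩
  · exact Or.inl ⟨idx_inj.mp (b.symm.trans d), idx_inj.mp (a.symm.trans c)⟩

theorem four_nat {p q r s : ℕ} (hp : p < 24) (hq : q < 24) (hr : r < 24) (hs : s < 24) (h : [p, q, r, s].Nodup) :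
    isT (valN p ^^^ valN q ^^^ valN r ^^^ valN s) = false := by
  have key : ∀ {a b c d : ℕ}, a < 24 → b < a → c < a → d < c → b ≠ c → b ≠ d →
      isT (valN a ^^^ valN b ^^^ valN c ^^^ valN d) = false := by
    intro a b c d ha hb hc hd n1 n2
    have h1 := List.all_eq_true.mp (List.all_eq_true.mp (List.all_eq_true.mp (List.all_eq_true.mp four_ok a
      (List.mem_range.mpr ha)) b (List.mem_range.mpr hb)) c (List.mem_range.mpr hc)) d (List.mem_range.mpr hd)
    simp only [Bool.or_eq_true, Nat.beq_eq, Bool.not_eq_true'] at h1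
    rcases h1 with (h1 | h1) | h1
    exacts [absurd h1 n1, absurd h1 n2, h1]
  simp only [List.nodup_cons, List.mem_cons, List.not_mem_nil, or_false, List.nodup_nil, not_or, not_false_eq_true,
    and_true] at h
  obtain ⟨⟨pq, pr, ps⟩, ⟨qr, qs⟩, rs⟩ := h
  have pick : ∀ {a b c d : ℕ}, a < 24 → b < a → c < a → d < a → c ≠ d → b ≠ c → b ≠ d →
      isT (valN a ^^^ valN b ^^^ valN c ^^^ valN d) = false := by
    intro a b c d ha hb hc hd n n1 n2
    rcases Nat.lt_or_gt_of_ne n with h | h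
    · rw [Nat.xor_assoc (valN a ^^^ valN b), Nat.xor_comm (valN c), ← Nat.xor_assoc]
      exact key ha hb hd h n2 n1
    · exact key ha hb hc h n1 n2
  have e1 : valN p ^^^ valN q ^^^ valN r ^^^ valN s = valN q ^^^ valN p ^^^ valN r ^^^ valN s := by
    rw [Nat.xor_comm (valN p)]
  have e2 : valN p ^^^ valN q ^^^ valN r ^^^ valN s = valN r ^^^ valN q ^^^ valN p ^^^ valN s := by
    ac_rfl
  have e3 : valN p ^^^ valN q ^^^ valN r ^^^ valN s = valN s ^^^ valN q ^^^ valN r ^^^ valN p := by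
    ac_rfl
  by_cases h1 : q < p ∧ r < p ∧ s < p
  · exact pick hp h1.1 h1.2.1 h1.2.2 rs qr qs
  by_cases h2 : p < q ∧ r < q ∧ s < q
  · rw [e1]; exact pick hq h2.1 h2.2.1 h2.2.2 rs pr ps
  by_cases h3 : q < r ∧ p < r ∧ s < r
  · rw [e2]; exact pick hr h3.1 h3.2.1 h3.2.2 ps (Ne.symm pq) qs
  · rw [e3]; exact pick hs (by omega) (by omega) (by omega) (Ne.symm pr) qr (Ne.symm pq)

/-- Two duads whose sum is a duad share a point. -/
theorem duad_meet {p q r s : GolayPt} (h : p ≠ q) (h' : r ≠ s) (ht : IsDuad (vp p + vp q + (vp r + vp s))) :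
    p = r ∨ p = s ∨ q = r ∨ q = s := by
  by_contra hcon
  push Not at hcon
  obtain ⟨n1, n2, n3, n4⟩ := hcon
  have hn : [idx p, idx q, idx r, idx s].Nodup := by
    simp [idx_inj, h, h', n1, n2, n3, n4]
  have h4 := four_nat (idx_lt p) (idx_lt q) (idx_lt r) (idx_lt s) hn
  obtain ⟨a, b, hab, e⟩ := ht
  rw [vp_add, vp_add, vp_add, ← vec_xor, ← Nat.xor_assoc] at e
  have e' := vec_inj (Nat.xor_lt_two_pow (Nat.xor_lt_two_pow (Nat.xor_lt_two_pow (val_lt _ (idx_lt p))
    (val_lt _ (idx_lt q))) (val_lt _ (idx_lt r))) (val_lt _ (idx_lt s)))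
    (Nat.xor_lt_two_pow (val_lt _ (idx_lt a)) (val_lt _ (idx_lt b))) e
  rw [e', (duad_code hab).1] at h4
  exact Bool.noConfusion h4

/-- The value of a word. -/
noncomputable def phiW : (GolayPt → ZMod 2) →ₗ[ZMod 2] V11 := ∑ p, (LinearMap.proj p).smulRight (vp p)

theorem phiW_apply (w : GolayPt → ZMod 2) : phiW w = ∑ p, w p • vp p := by
  simp [phiW]

theorem gens_phi : (∀ t : ZMod 23, (∑ p, qrWord t p • vp p : V11) = 0) ∧ (∑ p, vp p : V11) = 0 := by
  decide +kernel

theorem phi_code {w : GolayPt → ZMod 2} (hw : w ∈ golayCode) : phiW w = 0 := by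
  rw [← LinearMap.mem_ker]
  refine Submodule.span_le.mpr ?_ hw
  rintro x (⟨t, rfl⟩ | rfl)
  · rw [SetLike.mem_coe, LinearMap.mem_ker, phiW_apply, gens_phi.1 t]
  · rw [SetLike.mem_coe, LinearMap.mem_ker, phiW_apply]
    simpa using gens_phi.2

/-- A functional on the coordinate space. -/
def funl (a : ℕ) (v : V11) : ZMod 2 := ∑ i : Fin 11, (if a.testBit i.val then v i else 0)

theorem lam_ok : ∀ k < 12, ∀ p : GolayPt,
    (if (genMasks.getD k 0).testBit (idx p) then (1 : ZMod 2) else 0) =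
      funl (lamL.getD k (0, 0)).1 (vp p) + ((lamL.getD k (0, 0)).2 : ZMod 2) := by
  decide +kernel

theorem funl_sum (a : ℕ) (s : Finset GolayPt) (f : GolayPt → V11) :
    funl a (∑ p ∈ s, f p) = ∑ p ∈ s, funl a (f p) := by
  simp only [funl, Finset.sum_apply]
  rw [Finset.sum_comm]
  refine Finset.sum_congr rfl fun i _ => ?_
  split_ifs <;> simp

theorem mem_code_of_phi {s : Finset GolayPt} (h8 : s.card = 8) (h : ∑ p ∈ s, vp p = 0) :
    wordOf (toMask s) ∈ golayCode := by
  refine codeL_mem (mem_codeL_of_inCode (toMask_lt s) ?_)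
  simp only [inCode, List.all_eq_true, beq_iff_eq]
  intro g hg
  obtain ⟨k, hk, rfl⟩ := List.getElem_of_mem hg
  have hk' : k < 12 := by simpa [genMasks] using hk
  have h1 : ∑ p ∈ s, (if (genMasks.getD k 0).testBit (idx p) then (1 : ZMod 2) else 0) =
      funl (lamL.getD k (0, 0)).1 (∑ p ∈ s, vp p) + (s.card : ℕ) * ((lamL.getD k (0, 0)).2 : ZMod 2) := by
    rw [funl_sum, Finset.sum_congr rfl fun p _ => lam_ok k hk' p, Finset.sum_add_distrib, Finset.sum_const,
      nsmul_eq_mul]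
  have h0 : funl (lamL.getD k (0, 0)).1 0 = 0 := by simp [funl]
  rw [h, h8, h0, Finset.sum_boole, zero_add, show ((8 : ℕ) : ZMod 2) = 0 from rfl, zero_mul,
    ZMod.natCast_eq_zero_iff_even, Nat.even_iff] at h1
  rw [← List.getD_eq_getElem _ 0 hk, ← card_toSet, toSet_and, toSet_toMask]
  convert h1 using 3
  ext p
  simp

section Perm

variable (g : V11 ≃+ V11) (hg : ∀ v, IsDuad v → IsDuad (g v))

include hg

theorem exists_star (a : GolayPt) : ∃ x, ∀ b, b ≠ a → ∃ r, r ≠ x ∧ g (vp a + vp b) = vp x + vp r := by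
  have two : ∀ a : GolayPt, ∃ b c, b ≠ a ∧ c ≠ a ∧ b ≠ c := by decide
  obtain ⟨b, c, hb, hc, hbc⟩ := two a
  obtain ⟨x, y, hxy, exy⟩ := hg _ ⟨a, b, hb.symm, rfl⟩
  obtain ⟨u, w, huw, euw⟩ := hg _ ⟨a, c, hc.symm, rfl⟩
  have hsum : ∀ b c : GolayPt, vp a + vp b + (vp a + vp c) = vp b + vp c := fun b c => by
    rw [add_add_add_comm, ZModModule.add_self, zero_add]
  have hmeet : ∀ {b c x y u w : GolayPt}, b ≠ c → x ≠ y → u ≠ w → g (vp a + vp b) = vp x + vp y →
      g (vp a + vp c) = vp u + vp w → x = u ∨ x = w ∨ y = u ∨ y = w := by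
    intro b c x y u w hbc hxy huw exy euw
    refine duad_meet hxy huw ?_
    rw [← exy, ← euw, ← map_add, hsum]
    exact hg _ ⟨b, c, hbc, rfl⟩
  obtain ⟨p, r, s, hpr, hps, er, es⟩ : ∃ p r s, r ≠ p ∧ s ≠ p ∧ g (vp a + vp b) = vp p + vp r ∧
      g (vp a + vp c) = vp p + vp s := by
    rcases hmeet hbc hxy huw exy euw with h | h | h | h
    · exact ⟨x, y, w, hxy.symm, h ▸ huw.symm, exy, h ▸ euw⟩
    · exact ⟨x, y, u, hxy.symm, h ▸ huw, exy, by rw [euw, h, add_comm]⟩
    · exact ⟨y, x, w, hxy, h ▸ huw.symm, by rw [exy, add_comm], h ▸ euw⟩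
    · exact ⟨y, x, u, hxy, h ▸ huw, by rw [exy, add_comm], by rw [euw, h, add_comm]⟩
  have hrs : r ≠ s := fun e => by
    subst e
    have h1 := g.injective (er.trans es.symm)
    rcases duad_inj hb.symm hc.symm h1 with ⟨-, h2⟩ | ⟨h2, -⟩
    · exact hbc h2
    · exact hc h2.symm
  refine ⟨p, fun d hd => ?_⟩
  by_cases hdb : d = b
  · exact ⟨r, hpr, hdb ▸ er⟩
  by_cases hdc : d = c
  · exact ⟨s, hps, hdc ▸ es⟩
  obtain ⟨u, w, huw, euw⟩ := hg _ ⟨a, d, (Ne.symm hd), rfl⟩
  rcases eq_or_ne u p with h | h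
  · exact ⟨w, fun e => huw (h.trans e.symm), h ▸ euw⟩
  rcases eq_or_ne w p with h' | h'
  · exact ⟨u, h, by rw [euw, h', add_comm]⟩
  exfalso
  have h1 := hmeet (Ne.symm hdb) hpr.symm huw er euw
  have h2 := hmeet (Ne.symm hdc) hps.symm huw es euw
  have hu : g (vp a + vp d) = g (vp b + vp c) := by
    rw [← hsum b c, map_add g (vp a + vp b), er, es, euw, add_add_add_comm, ZModModule.add_self, zero_add]
    rcases h1 with k | k | k | k
    · exact absurd k.symm h
    · exact absurd k.symm h'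
    · rcases h2 with l | l | l | l
      · exact absurd l.symm h
      · exact absurd l.symm h'
      · exact absurd (k.trans l.symm) hrs
      · rw [k, l]
    · rcases h2 with l | l | l | l
      · exact absurd l.symm h
      · exact absurd l.symm h'
      · rw [k, l, add_comm]
      · exact absurd (k.trans l.symm) hrs
  rcases duad_inj (Ne.symm hd) hbc (g.injective hu) with ⟨h3, -⟩ | ⟨h3, -⟩
  · exact hb h3.symm
  · exact hc h3.symm

theorem exists_perm : ∃ σ : Equiv.Perm GolayPt, σ ∈ M24 ∧ ∀ p q, g (vp p + vp q) = vp (σ p) + vp (σ q) := by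
  choose f hf using exists_star g hg
  have hinj : Function.Injective f := by
    intro a a' e
    by_contra hne
    obtain ⟨c, h1, h2⟩ := (show ∀ a a' : GolayPt, ∃ c, c ≠ a ∧ c ≠ a' by decide) a a'
    obtain ⟨r, hr, er⟩ := hf a a' (Ne.symm hne)
    obtain ⟨s, hs, es⟩ := hf a c h1
    obtain ⟨t, ht, et⟩ := hf a' c h2
    have hrs : r ≠ s := fun e' => by
      subst e'
      rcases duad_inj hne h1.symm (g.injective (er.trans es.symm)) with ⟨-, k⟩ | ⟨k, -⟩
      · exact h2 k.symm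
      · exact h1 k.symm
    have : vp r + vp s = vp (f a') + vp t := by
      rw [← et, show vp a' + vp c = (vp a + vp a') + (vp a + vp c) by
        rw [add_add_add_comm, ZModModule.add_self, zero_add], map_add, er, es, add_add_add_comm,
        ZModModule.add_self, zero_add]
    rcases duad_inj hrs ht.symm this with ⟨k, -⟩ | ⟨-, k⟩
    · exact hr (k.trans e.symm)
    · exact hs (k.trans e.symm)
  let σ : Equiv.Perm GolayPt := Equiv.ofBijective f (Finite.injective_iff_bijective.mp hinj)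
  have hσ : ∀ p q, g (vp p + vp q) = vp (σ p) + vp (σ q) := by
    intro p q
    rcases eq_or_ne p q with rfl | h
    · rw [ZModModule.add_self, map_zero, ZModModule.add_self]
    obtain ⟨r, hr, er⟩ := hf p q h.symm
    obtain ⟨r', hr', er'⟩ := hf q p h
    rw [add_comm, er] at er'
    rcases duad_inj hr.symm hr'.symm er' with ⟨k, -⟩ | ⟨k, k'⟩
    · exact absurd (hinj k) h
    · rw [er, k']; rfl
  refine ⟨σ, mem_M24_of_octads fun o ho => ?_, hσ⟩
  obtain ⟨⟨w, hw, hwo⟩, h8⟩ := id ho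
  have hwchi : ∀ p, w p = if p ∈ o then 1 else 0 := by
    intro p
    have h2 : ∀ x : ZMod 2, x = if x ≠ 0 then 1 else 0 := by decide
    rw [h2 (w p), ← hwo]
    simp [support₂]
  have h0 : ∑ p ∈ o, vp p = 0 := by
    rw [← phi_code hw, phiW_apply]
    simp [hwchi, ite_smul]
  have hc : ∀ p, g (vp p) = vp (σ p) + (g (vp none) + vp (σ none)) := fun p => by
    rw [← add_left_inj (g (vp none)), ← map_add, hσ]
    rw [add_assoc, add_comm (g (vp none)) (vp (σ none)), add_assoc (vp (σ none)), ZModModule.add_self, add_zero]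
  have h1 : ∑ p ∈ o, vp (σ p) = 0 := by
    have := congrArg g h0
    rw [map_sum, map_zero, Finset.sum_congr rfl fun p _ => hc p, Finset.sum_add_distrib, Finset.sum_const, h8] at this
    rwa [show (8 : ℕ) • (g (vp none) + vp (σ none)) = 0 by
      rw [← Nat.cast_smul_eq_nsmul (ZMod 2), show ((8 : ℕ) : ZMod 2) = 0 from rfl, zero_smul], add_zero] at this
  have hcard : (o.image σ).card = 8 := by rw [Finset.card_image_of_injective _ σ.injective, h8]
  refine ⟨⟨_, mem_code_of_phi hcard ?_, ?_⟩, hcard⟩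
  · rwa [Finset.sum_image fun x _ y _ h => σ.injective h]
  · rw [support_wordOf, toSet_toMask]

omit hg in
theorem perm_unique {σ τ : Equiv.Perm GolayPt} (hσ : ∀ p q, g (vp p + vp q) = vp (σ p) + vp (σ q))
    (hτ : ∀ p q, g (vp p + vp q) = vp (τ p) + vp (τ q)) : σ = τ := by
  ext p : 1
  by_contra hne
  obtain ⟨q, r, hq, hr, hqr⟩ := (show ∀ a : GolayPt, ∃ b c, b ≠ a ∧ c ≠ a ∧ b ≠ c by decide) p
  have key : ∀ q, q ≠ p → σ p = τ q := fun q hq => by
    rcases duad_inj (σ.injective.ne hq.symm) (τ.injective.ne hq.symm) ((hσ p q).symm.trans (hτ p q)) with ⟨k, -⟩ | ⟨k, -⟩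
    · exact absurd k hne
    · exact k
  exact hqr (τ.injective ((key q hq).symm.trans (key r hr)))

end Perm

theorem span_ok : ∀ i : Fin 11, (∑ p ∈ toSet (spanL.getD i 0), vp p : V11) = Pi.single i 1 ∧
    (toSet (spanL.getD i 0)).card % 2 = 0 := by
  decide +kernel

/-- A group of automorphisms preserving the duads acts on the points through M24. -/
theorem exists_hom {X : Type*} [Group X] (ρ : X →* Equiv.Perm V11) (hadd : ∀ x u v, ρ x (u + v) = ρ x u + ρ x v)
    (hρ : ∀ x v, IsDuad v → IsDuad (ρ x v)) :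
    ∃ τ : X →* ↥M24, τ.ker = ρ.ker ∧
      ∀ x p q, ρ x (vp p + vp q) = vp ((τ x : Equiv.Perm GolayPt) p) + vp ((τ x : Equiv.Perm GolayPt) q) := by
  choose f hfm hf' using fun x => exists_perm (AddEquiv.mk' (ρ x) (hadd x)) (hρ x)
  have hf : ∀ x p q, ρ x (vp p + vp q) = vp (f x p) + vp (f x q) := hf'
  have hmul : ∀ x y, f (x * y) = f x * f y := fun x y =>
    perm_unique (AddEquiv.mk' (ρ (x * y)) (hadd _)) (hf _) fun p q => by
      show ρ (x * y) _ = _
      rw [map_mul, Equiv.Perm.mul_apply, hf y, hf x]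
      rfl
  let τ : X →* ↥M24 := MonoidHom.mk' (fun x => ⟨f x, hfm x⟩) fun x y => Subtype.ext (hmul x y)
  refine ⟨τ, ?_, hf⟩
  ext x
  rw [MonoidHom.mem_ker, MonoidHom.mem_ker]
  constructor
  · intro h
    have hx : f x = 1 := congrArg Subtype.val h
    have hfix : ∀ p, ρ x (vp p) + vp p = ρ x (vp none) + vp none := fun p => by
      have h1 := hf x p none
      rw [hadd, hx, Equiv.Perm.one_apply, Equiv.Perm.one_apply] at h1
      calc ρ x (vp p) + vp p = ρ x (vp p) + ρ x (vp none) + (ρ x (vp none) + vp p) := by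
            rw [add_assoc (ρ x (vp p)) (ρ x (vp none)), ← add_assoc (ρ x (vp none)) (ρ x (vp none)),
              ZModModule.add_self, zero_add]
        _ = vp p + vp none + (ρ x (vp none) + vp p) := by rw [h1]
        _ = ρ x (vp none) + vp none := by
            rw [add_comm (vp p), add_add_add_comm, ZModModule.add_self, add_zero, add_comm]
    refine Equiv.ext fun v => ?_
    have hsumρ : ∀ (ι : Type) (s : Finset ι) (F : ι → V11), ρ x (∑ i ∈ s, F i) = ∑ i ∈ s, ρ x (F i) :=
      fun ι s F => map_sum (AddEquiv.mk' (ρ x) (hadd x)) F s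
    have hb : ∀ i : Fin 11, ρ x (Pi.single i 1) = Pi.single i 1 := fun i => by
      obtain ⟨e, hev⟩ := span_ok i
      rw [← e, hsumρ, ← add_left_inj (∑ p ∈ toSet (spanL.getD i 0), vp p), ← Finset.sum_add_distrib,
        Finset.sum_congr rfl fun p _ => hfix p, Finset.sum_const, ZModModule.add_self,
        ← Nat.cast_smul_eq_nsmul (ZMod 2), show (((toSet (spanL.getD i 0)).card : ℕ) : ZMod 2) = 0 from
          ZMod.natCast_eq_zero_iff_even.mpr (Nat.even_iff.mpr hev), zero_smul]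
    rw [Equiv.Perm.one_apply, ← Finset.univ_sum_single v, hsumρ]
    refine Finset.sum_congr rfl fun i _ => ?_
    rcases (show ∀ a : ZMod 2, a = 0 ∨ a = 1 by decide) (v i) with h2 | h2 <;> rw [h2]
    · rw [Pi.single_zero]
      exact map_zero (AddEquiv.mk' (ρ x) (hadd x))
    · exact hb i
  · intro h
    exact Subtype.ext (perm_unique (AddEquiv.mk' (ρ x) (hadd x)) (hf x) fun p q => by
      show ρ x _ = _
      rw [h]; rfl)

end CfsgLib.Fi24J
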