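import Cfsg.Agent.Lib.Fi24J.ModelChecks

/-!
The elements of the largest elementary subgroup in coordinates and their conjugacy to the central involution.
-/

set_option autoImplicit false
set_option linter.unusedSectionVars false

namespace CfsgLib.Fi24Q

open Matrix CfsgLib.G24 CfsgLib.SUSixSub Equiv CfsgLib.Fi24J
open scoped commutatorElement

attribute [local irreducible] T0 planeL aList maskA maskB iMaskL gMaskL iWitL oWitL

/-- A plane vector. -/
def vP (w : ℕ) : V := vecN (pl w)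

theorem pl_lt {w : ℕ} (hw : w < 64) : pl w < 4096 := by
  have h := List.all_eq_true.mp (List.all_eq_true.mp plane_lin.1 w (List.mem_range.mpr hw)) w (List.mem_range.mpr hw)
  simp only [Bool.and_eq_true, Nat.blt_eq] at h
  exact h.1.2

theorem vP_xor {a b : ℕ} (ha : a < 64) (hb : b < 64) : vP (a ^^^ b) = vP a + vP b := by
  have h := List.all_eq_true.mp (List.all_eq_true.mp plane_lin.1 a (List.mem_range.mpr ha)) b (List.mem_range.mpr hb)
  simp only [Bool.and_eq_true] at h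
  rw [vP, vP, vP, vecN_add, Nat.eq_of_beq_eq_true h.1.1]

theorem vP_inj {a b : ℕ} (ha : a < 64) (hb : b < 64) (e : vP a = vP b) : a = b := by
  have h := List.all_eq_true.mp (List.all_eq_true.mp plane_lin.1 a (List.mem_range.mpr ha)) b (List.mem_range.mpr hb)
  simp only [Bool.and_eq_true, Bool.or_eq_true, Bool.not_eq_true', Nat.beq_eq] at h
  rcases h.2 with h | h
  · exact h
  · rw [vecN_inj (pl_lt ha) (pl_lt hb) e] at h
    simp at h

theorem vP_zero : vP 0 = 0 := by rw [vP, plane_lin.2.2, vecN_zero]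

theorem vP_mem {w : ℕ} (hw : w < 64) : vP w ∈ Uset := by
  refine vecN_mem plane_mask ?_
  rw [pl, List.getD_eq_getElem _ _ (plane_lin.2.1.symm ▸ hw)]
  exact List.getElem_mem _

theorem vP_surj {v : V} (hv : v ∈ Uset) : ∃ w, w < 64 ∧ vP w = v := by
  obtain ⟨i, hi, e⟩ := List.getElem_of_mem ((mem_of_maskOK plane_mask).mp hv)
  refine ⟨i, plane_lin.2.1 ▸ hi, ?_⟩
  rw [vP, pl, List.getD_eq_getElem _ _ hi, e, vecN_cdV]

theorem xor_lt64 {a b : ℕ} (ha : a < 64) (hb : b < 64) : a ^^^ b < 64 :=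
  Nat.xor_lt_two_pow (n := 6) ha hb

/-- The map of a class. -/
noncomputable def pE (e : ℕ) : Perm V := if e = 0 then 1 else invP (aList.getD (eIxL.getD e 0) 0)

theorem eIx_mem {e : ℕ} (he : e < 16) (h0 : e ≠ 0) : aList.getD (eIxL.getD e 0) 0 ∈ aList := by
  have h := List.all_eq_true.mp class_ok.2 e (List.mem_range.mpr he)
  simp only [Bool.or_eq_true, Bool.and_eq_true, Nat.beq_eq, Nat.blt_eq, h0, false_or] at h
  rw [List.getD_eq_getElem _ _ (aList_ok.1.symm ▸ h.1)]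
  exact List.getElem_mem _

theorem pE_isE {e : ℕ} (he : e < 16) : IsE (pE e) (eE e) := by
  unfold pE eE
  split_ifs with h
  · exact isE_one
  · exact invP_isE (aList_lt (eIx_mem he h)).1

theorem pE_mem {e : ℕ} (he : e < 16) : pE e ∈ A0f := by
  unfold pE
  split_ifs with h
  · exact one_mem _
  · exact Or.inr ⟨_, eIx_mem he h, rfl⟩

theorem pE_mul {a b : ℕ} (ha : a < 16) (hb : b < 16) : pE a * pE b = pE (a ^^^ b) :=
  ((pE_isE ha).mul (pE_isE hb)).eq (pE_isE (Nat.xor_lt_two_pow (n := 4) ha hb))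
    (List.all_eq_true.mp (List.all_eq_true.mp class_ok.1 a (List.mem_range.mpr ha)) b (List.mem_range.mpr hb))

theorem pE_inj {a b : ℕ} (ha : a < 16) (hb : b < 16) (e : pE a = pE b) : a = b := by
  wlog h : b ≤ a generalizing a b
  · exact (this hb ha e.symm (by omega)).symm
  by_contra hne
  have ha0 : a ≠ 0 := by omega
  unfold pE at e
  rw [if_neg ha0] at e
  split_ifs at e with hb0
  · exact invP_ne (aList_lt (eIx_mem ha ha0)).1 e
  · have e' := invP_alist_inj (eIx_mem ha ha0) (eIx_mem hb hb0) e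
    have h1 := List.all_eq_true.mp class_ok.2 a (List.mem_range.mpr ha)
    simp only [Bool.or_eq_true, Bool.and_eq_true, Nat.beq_eq, Nat.blt_eq, ha0, false_or] at h1
    have h2 := List.all_eq_true.mp h1.2 b (List.mem_range.mpr (by omega))
    simp only [Bool.or_eq_true, Nat.beq_eq, hb0, false_or, Bool.not_eq_true'] at h2
    have h3 := List.all_eq_true.mp class_ok.2 b (List.mem_range.mpr hb)
    simp only [Bool.or_eq_true, Bool.and_eq_true, Nat.beq_eq, Nat.blt_eq, hb0, false_or] at h3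
    have la : eIxL.getD a 0 < aList.length := by rw [aList_ok.1]; exact h1.1
    have lb : eIxL.getD b 0 < aList.length := by rw [aList_ok.1]; exact h3.1
    rw [List.getD_eq_getElem aList 0 la, List.getD_eq_getElem aList 0 lb] at e'
    have hnd : aList.Nodup := by
      unfold aList
      decide
    have hee := (hnd.getElem_inj_iff).mp e'
    rw [← hee] at h2
    simp at h2

theorem pE_surj {p : Perm V} (hp : p ∈ A0f) : ∃ e, e < 16 ∧ pE e = p := by
  classical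
  let f : Fin 16 → ↥A0f := fun e => ⟨pE e.val, pE_mem e.2⟩
  have hf : Function.Bijective f := (Nat.bijective_iff_injective_and_card f).mpr
    ⟨fun a b h => Fin.ext (pE_inj a.2 b.2 (congrArg Subtype.val h)), by rw [card_A0f, Nat.card_fin]⟩
  obtain ⟨e, he⟩ := hf.2 ⟨p, hp⟩
  exact ⟨e.val, e.2, congrArg Subtype.val he⟩

theorem pE_add {e : ℕ} (he : e < 16) (u : ℕ) :
    pE e (vecN u) + vecN u = vecN (addN (img (eE e) u) u) := by
  rw [(pE_isE he).apply_vecN, vecN_add]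

theorem smN_spec (w : ℕ) : vecN (smN w) = K.w • vecN w := by
  have h : smN w = cdV (K.w • vecN w) := rfl
  rw [h, vecN_cdV]

theorem vP_sm {w : ℕ} (hw : w < 64) : smWL.getD w 0 < 64 ∧ K.w • vP w = vP (smWL.getD w 0) := by
  have h := List.all_eq_true.mp scalar_ok.1 w (List.mem_range.mpr hw)
  simp only [Bool.and_eq_true, Nat.blt_eq] at h
  exact ⟨h.1, by rw [vP, vP, ← smN_spec, Nat.eq_of_beq_eq_true h.2]⟩

theorem rep_lt {e : ℕ} (he : e < 16) : ∀ k, rep e k < 64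
  | 0 => by
    have h := List.all_eq_true.mp scalar_ok.2 e (List.mem_range.mpr he)
    simp only [Bool.and_eq_true, Nat.blt_eq] at h
    exact h.1
  | k + 1 => (vP_sm (rep_lt he k)).1

theorem zb2_eq (b : ZMod 2) : ∃ t : Bool, b = zb2 t := by
  rcases (show ∀ a : ZMod 2, a = 0 ∨ a = 1 by decide) b with rfl | rfl
  exacts [⟨false, rfl⟩, ⟨true, rfl⟩]

variable {G : Type*} [Group G] [Finite G] {z : G} {Q : Subgroup (Cz z)} [hQn : Q.Normal]

/-- Conjugate to the central involution. -/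
def Zp (c : Cz z) : Prop := IsConj z (c : G)

theorem Zp_conj (h c : Cz z) : Zp (h * c * h⁻¹) ↔ Zp c := by
  have e : IsConj (c : G) ((h * c * h⁻¹ : Cz z) : G) := isConj_iff.mpr ⟨(h : G), rfl⟩
  exact ⟨fun k => IsConj.trans k e.symm, fun k => IsConj.trans k e⟩

namespace Data

variable (D : Data z Q) (hR : D.R = Sg)

/-- A fixed lift of a class. -/
noncomputable def aF (e : ℕ) : Cz z :=
  if h : e ≠ 0 ∧ e < 16 then (D.exists_fixed hR (pE_mem h.2)).choose else 1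

theorem aF_spec {e : ℕ} (he : e < 16) :
    D.aF hR e ∈ D.Ae ∧ D.th (D.aF hR e) = pE e ∧ D.x * D.aF hR e * D.x⁻¹ = D.aF hR e := by
  unfold aF
  split_ifs with h
  · exact (D.exists_fixed hR (pE_mem h.2)).choose_spec
  · obtain rfl : e = 0 := by
      by_contra h0
      exact h ⟨h0, he⟩
    exact ⟨one_mem _, by rw [map_one, pE, if_pos rfl], by group⟩

/-- An element in coordinates. -/
noncomputable def el (e w : ℕ) (i : ZMod 2) : Cz z := D.aF hR e * (D.sL (vP w) * D.zp i)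

theorem zp_Kc (i : ZMod 2) : D.zp i ∈ D.Kc := by
  unfold zp
  split_ifs
  · exact one_mem _
  · refine D.mem_Kc.mpr ?_
    rw [(D.pi_ker _).mpr (Or.inr rfl)]
    exact Uset_zero

theorem Kc_Ae {c : Cz z} (hc : c ∈ D.Kc) : c ∈ D.Ae := (D.Ae_inf.symm ▸ hc : c ∈ D.Ae ⊓ Q).1

theorem el_mem {e w : ℕ} (he : e < 16) (hw : w < 64) (i : ZMod 2) : D.el hR e w i ∈ D.Ae :=
  mul_mem (D.aF_spec hR he).1 (D.Kc_Ae (mul_mem (D.sL_Kc (vP_mem hw)) (D.zp_Kc i)))

theorem el_th {e w : ℕ} (he : e < 16) (i : ZMod 2) : D.th (D.el hR e w i) = pE e := by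
  rw [el, map_mul, (D.aF_spec hR he).2.1, (D.th_ker _).mpr (mul_mem (D.sL_mem _) (D.Kc_le (D.zp_Kc i))), mul_one]

theorem el_inj {e w e' w' : ℕ} {i i' : ZMod 2} (he : e < 16) (hw : w < 64) (he' : e' < 16) (hw' : w' < 64)
    (h : D.el hR e w i = D.el hR e' w' i') : e = e' ∧ w = w' ∧ i = i' := by
  have h1 := congrArg D.th h
  rw [D.el_th hR he, D.el_th hR he'] at h1
  obtain rfl := pE_inj he he' h1
  obtain ⟨h2, h3⟩ := D.sL_zp_inj (mul_left_cancel h)
  exact ⟨rfl, vP_inj hw hw' h2, h3⟩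

theorem el_surj {a : Cz z} (ha : a ∈ D.Ae) : ∃ e w i, e < 16 ∧ w < 64 ∧ D.el hR e w i = a := by
  obtain ⟨e, he, hp⟩ := pE_surj (p := D.th a) ha.1
  obtain ⟨h1, h2, -⟩ := D.aF_spec hR he
  obtain ⟨v, hv, i, hi⟩ := D.Kc_decomp (D.Ae_Q (mul_mem (inv_mem h1) ha) (by
    rw [map_mul, map_inv, h2, hp, inv_mul_cancel]))
  obtain ⟨w, hw, rfl⟩ := vP_surj hv
  exact ⟨e, w, i, he, hw, by rw [el, ← hi, mul_inv_cancel_left]⟩

theorem core_el {e w : ℕ} (he : e < 16) (hw : w < 64) (i : ZMod 2) (q : Q) {w' : ℕ} (hw' : w' < 64)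
    (hu : pE e (D.pi q) + D.pi q = vP w') :
    (q : Cz z) * D.el hR e w i * (q : Cz z)⁻¹ =
      D.el hR e (w' ^^^ w) (tb (hV (vP w') (D.pi q)) + beta (D.pi q) (vP w) + i) := by
  obtain ⟨h1, h2, h3⟩ := D.aF_spec hR he
  obtain ⟨-, hq⟩ := D.conj_fixed hR h1 h3 q
  rw [h2, hu] at hq
  have hs := D.sL_conj q (v := vP w)
  rw [el, el, vP_xor hw' hw, D.sL_add (vP_mem hw') (vP_mem hw), D.zp_add, D.zp_add]
  calc (q : Cz z) * (D.aF hR e * (D.sL (vP w) * D.zp i)) * (q : Cz z)⁻¹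
      = ((q : Cz z) * D.aF hR e * (q : Cz z)⁻¹) * ((q : Cz z) * D.sL (vP w) * (D.zp i * (q : Cz z)⁻¹)) := by group
    _ = ((q : Cz z) * D.aF hR e * (q : Cz z)⁻¹) * (((q : Cz z) * D.sL (vP w) * (q : Cz z)⁻¹) * D.zp i) := by
        rw [← D.zp_comm (q : Cz z)⁻¹]; group
    _ = D.aF hR e * (D.sL (vP w') * (D.zp (tb (hV (vP w') (D.pi q))) * D.sL (vP w)) *
          (D.zp (beta (D.pi q) (vP w)) * D.zp i)) := by rw [hq, hs]; group
    _ = _ := by rw [← D.zp_comm (D.sL (vP w))]; group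

/-- Inside the image: the two classes of the lifts. -/
theorem Zp_inside {e w : ℕ} (he : e < 16) (hw : w < 64) (hI : inI e w = true) (i : ZMod 2) :
    Zp (D.el hR e w (i + zb2 (gI e w))) ↔ Zp (D.el hR e 0 i) := by
  have h := List.all_eq_true.mp (List.all_eq_true.mp inside_ok e (List.mem_range.mpr he)) w (List.mem_range.mpr hw)
  simp only [hI, Bool.not_true, Bool.false_or, Bool.and_eq_true, decide_eq_true_eq] at h
  obtain ⟨hu, hg⟩ := h
  set u := ((iWitL.getD e 0) >>> (12 * w)) % 4096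
  obtain ⟨q, hq⟩ := D.pi_surj (vecN u)
  have hc := D.core_el hR he (w := 0) (by norm_num) i q hw (by rw [hq, pE_add he, Nat.eq_of_beq_eq_true hu]; rfl)
  rw [Nat.xor_zero, vP_zero, beta_zeroR, add_zero, hq, vP, ← hN_eq, hg, add_comm (zb2 (gI e w))] at hc
  rw [← hc, Zp_conj]

theorem x_el {e w : ℕ} (he : e < 16) (hw : w < 64) (i : ZMod 2) :
    D.x * D.el hR e w i * D.x⁻¹ = D.el hR e (smWL.getD w 0) i := by
  obtain ⟨-, -, h3⟩ := D.aF_spec hR he
  rw [el, el, ← (vP_sm hw).2, ← D.sL_x]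
  calc D.x * (D.aF hR e * (D.sL (vP w) * D.zp i)) * D.x⁻¹
      = (D.x * D.aF hR e * D.x⁻¹) * (D.x * D.sL (vP w) * (D.zp i * D.x⁻¹)) := by group
    _ = _ := by rw [h3, ← D.zp_comm D.x⁻¹]; group

theorem Zp_rep {e : ℕ} (he : e < 16) : ∀ k, Zp (D.el hR e (rep e k) 0) ↔ Zp (D.el hR e (rep e 0) 0)
  | 0 => Iff.rfl
  | k + 1 => by
    rw [← Zp_rep he k, ← Zp_conj D.x (D.el hR e (rep e k) 0), D.x_el hR he (rep_lt he k)]
    rfl

/-- Outside the image all elements of a class are alike. -/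
theorem Zp_outside {e w : ℕ} (he : e < 16) (h0 : e ≠ 0) (hw : w < 64) (hI : inI e w = false) (i : ZMod 2) :
    Zp (D.el hR e w i) ↔ Zp (D.el hR e (rep e 0) 0) := by
  obtain ⟨b, hb, rfl⟩ : ∃ b, b < 2 ∧ i = ((b : ℕ) : ZMod 2) := by
    rcases (show ∀ a : ZMod 2, a = 0 ∨ a = 1 by decide) i with rfl | rfl
    exacts [⟨0, by norm_num, rfl⟩, ⟨1, by norm_num, rfl⟩]
  have h := List.all_eq_true.mp (List.all_eq_true.mp outside_ok e (List.mem_range'_1.mpr ⟨by omega, by omega⟩))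
    (2 * w + b) (List.mem_range.mpr (by omega))
  rw [show (2 * w + b) / 2 = w by omega, show (2 * w + b) % 2 = b by omega] at h
  simp only [hI, Bool.false_or, Bool.and_eq_true, decide_eq_true_eq, Nat.blt_eq] at h
  obtain ⟨⟨⟨-, hr⟩, hu⟩, hg⟩ := h
  set t := ((oWitL.getD e 0) >>> (14 * (2 * w + b))) % 16384
  set r := rep e (t / 4096) with hrdef
  obtain ⟨q, hq⟩ := D.pi_surj (vecN (t % 4096))
  have hc := D.core_el hR he hr 0 q (xor_lt64 hw hr)
    (by rw [hq, pE_add he, Nat.eq_of_beq_eq_true hu]; rfl)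
  rw [Nat.xor_assoc, Nat.xor_self, Nat.xor_zero, add_zero, hq, vP, vP, ← hN_eq,
    show beta (vecN (t % 4096)) (vecN (pl r)) = betaN (t % 4096) (pl r) by rw [beta, betaN, hN_eq, hN_eq], hg] at hc
  rw [← hc, Zp_conj, hrdef]
  exact D.Zp_rep hR he _

theorem el_zero {w : ℕ} (i : ZMod 2) : D.el hR 0 w i = D.sL (vP w) * D.zp i := by
  rw [el, aF, dif_neg (by simp), one_mul]

/-- The elements of the core. -/
theorem Zp_core (hset : Cfsg.IsExtraspecialCentralizerSetting z Q 6) {w : ℕ} (hw : w < 64) (i : ZMod 2) :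
    Zp (D.el hR 0 w i) ↔ (w = 0 ∧ i = 1) ∨ (w ≠ 0 ∧ maskA.testBit (pl w) = false) := by
  rw [D.el_zero hR]
  by_cases h0 : w = 0
  · subst h0
    rw [vP_zero, D.sL_zero, one_mul]
    rcases (show ∀ a : ZMod 2, a = 0 ∨ a = 1 by decide) i with rfl | rfl
    · simp only [D.zp_zero, zero_ne_one, and_false, false_or, ne_eq, not_true_eq_false, false_and, iff_false]
      intro h
      have h2 := D.z2
      rw [(isConj_one_left (a := z)).mp (by simpa [Zp] using h), orderOf_one] at h2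
      norm_num at h2
    · simp only [D.zp_one, and_self, true_or, iff_true]
      show IsConj z _
      rw [D.coe_zq]
  · have hv0 : vP w ≠ 0 := fun e => h0 (vP_inj hw (by norm_num) (e.trans vP_zero.symm))
    have hq : D.sL (vP w) * D.zp i ∈ Q := mul_mem (D.sL_mem _) (D.Kc_le (D.zp_Kc i))
    set a : Q := ⟨_, hq⟩ with ha
    have hzp : D.pi ⟨D.zp i, D.Kc_le (D.zp_Kc i)⟩ = 0 := by
      refine (D.pi_ker _).mpr ?_
      rcases (show ∀ a : ZMod 2, a = 0 ∨ a = 1 by decide) i with rfl | rfl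
      exacts [Or.inl (Subtype.ext D.zp_zero), Or.inr (Subtype.ext D.zp_one)]
    have hpi : D.pi a = vP w := by
      rw [show a = ⟨D.sL (vP w), D.sL_mem _⟩ * ⟨D.zp i, D.Kc_le (D.zp_Kc i)⟩ from rfl, D.pi_mul, D.pi_sL, hzp,
        add_zero]
    have hAB : vP w ∈ inM maskA ∨ vP w ∈ inM maskB :=
      (sing_iff _).mpr ⟨hv0, Uset_iso (vP_mem hw) (vP_mem hw)⟩
    have hne : ((a : Cz z) : G) ≠ z := (D.order_two (hpi.symm ▸ hAB)).2
    have hbit : maskA.testBit (pl w) = true ↔ vP w ∈ inM maskA := by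
      rw [mem_inM, vP, cdV_vecN (pl_lt hw)]
    simp only [h0, false_and, ne_eq, not_false_eq_true, true_and, false_or]
    constructor
    · intro hz
      obtain ⟨g, hg⟩ := isConj_iff.mp hz
      have hB := (D.pair_main (a := a) hg hne).1
      rw [← Bool.not_eq_true, hbit]
      exact fun hA => not_both _ ⟨hA, hpi ▸ hB⟩
    · intro hA
      have hB : D.pi a ∈ inM maskB := hpi.symm ▸ hAB.resolve_left (by rw [← hbit, hA]; simp)
      obtain ⟨-, b, hb, hbB⟩ := D.R_eq hset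
      obtain ⟨h, hh⟩ := (D.conj_iff (a := b) (b := a) ((sing_iff _).mp (Or.inr hbB)).1).mpr (D.rng.transitive_B hbB hB)
      show IsConj z ((a : Cz z) : G)
      rw [← hh]
      exact hb.trans (isConj_iff.mpr ⟨(h : G), rfl⟩)

omit hR in
theorem exists_commuting {k : Perm V} (hk : k ∈ KL) : ∃ c : Cz z, D.th c = k ∧ c * D.x * c⁻¹ = D.x := by
  obtain ⟨g, -, hg⟩ := id hk
  obtain ⟨c, hc⟩ := D.rng.le hk
  set d := D.x⁻¹ * (c * D.x * c⁻¹) with hd
  have hlin : k * D.th D.x * k⁻¹ = D.th D.x := by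
    rw [mul_inv_eq_iff_eq_mul]
    refine Equiv.ext fun v => ?_
    rw [Perm.mul_apply, Perm.mul_apply, D.x_act, D.x_act, ← hg, (isIso_lin g).smul]
  have hdQ : d ∈ Q := (D.th_ker _).mp (by
    rw [hd, map_mul, map_mul, map_mul, map_inv, map_inv, hc, hlin, inv_mul_cancel])
  obtain ⟨q, hq⟩ := D.pi_surj (K.v • D.pi ⟨d, hdQ⟩)
  have hxi : D.th D.x⁻¹ (D.pi q) = K.v • D.pi q := by
    rw [map_inv, Perm.inv_def, Equiv.symm_apply_eq, D.x_act, smul_smul]
    exact (one_smul K _).symm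
  set e := D.x⁻¹ * (q : Cz z) * D.x * d * (q : Cz z)⁻¹ with he
  have heQ : e ∈ Q := mul_mem (mul_mem (by simpa using hQn.conj_mem _ q.2 D.x⁻¹) hdQ) (inv_mem q.2)
  have hpe : D.pi ⟨e, heQ⟩ = 0 := by
    have e1 : (⟨e, heQ⟩ : Q) = conjQ D.x⁻¹ q * ⟨d, hdQ⟩ * q⁻¹ := Subtype.ext (by simp [he, conjQ])
    rw [e1, D.pi_mul, D.pi_mul, D.pi_inv, ← D.th_pi, hxi, hq, smul_smul]
    funext i
    exact (show ∀ t : K, K.v * K.v * t + t + K.v * t = 0 by decide) _
  obtain ⟨i, hi⟩ := D.pi_zero_cases hpe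
  refine ⟨(q : Cz z) * c, by rw [map_mul, (D.th_ker _).mpr q.2, one_mul, hc], ?_⟩
  have hconj : ((q : Cz z) * c) * D.x * ((q : Cz z) * c)⁻¹ = D.x * e := by rw [he, hd]; group
  have h3 : (D.x * e) ^ 3 = 1 := by rw [← hconj, conj_pow, D.x_three]; group
  have hxe : D.x * e = e * D.x := by rw [hi]; exact D.zp_comm _ _
  rw [Commute.mul_pow hxe, D.x_three, one_mul] at h3
  have hee : e * e = 1 := by rw [hi, ← D.zp_add, CharTwo.add_self_eq_zero, D.zp_zero]
  rw [hconj, show e = 1 by rwa [pow_succ, pow_two, hee, one_mul] at h3, mul_one]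

/-- The action of a generator of the stabilizer of the plane. -/
theorem exists_gen {j : ℕ} (hj : j < 2) : ∃ c : Cz z,
    (∀ a ∈ D.Ae, c * a * c⁻¹ ∈ D.Ae) ∧ ∀ e, e < 16 → ∃ t : ZMod 2, ∀ w, w < 64 → ∀ i,
      c * D.el hR e w i * c⁻¹ = D.el hR ((gEL.getD j []).getD e 0) ((gWL.getD j []).getD w 0) (i + t) := by
  obtain ⟨hKL, hU, -⟩ := pgP_spec j hj
  obtain ⟨c, hc, hcx⟩ := D.exists_commuting hKL
  have hgE : IsE (pgP j) (genE j) := by
    have hj' : j < pGens.length := pGens_ok.2.1.symm ▸ hj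
    exact isE_elN (wordsB_spec pGens_ok.1 hj').1
  have hg := List.all_eq_true.mp gens_ok j (List.mem_range.mpr hj)
  simp only [Bool.and_eq_true] at hg
  have hge : ∀ e, e < 16 → (gEL.getD j []).getD e 0 < 16 ∧
      pgP j * pE e * (pgP j)⁻¹ = pE ((gEL.getD j []).getD e 0) := by
    intro e he
    have h := List.all_eq_true.mp hg.2 e (List.mem_range.mpr he)
    simp only [Bool.and_eq_true, Nat.blt_eq] at h
    refine ⟨h.1.1, mul_inv_eq_iff_eq_mul.mpr ?_⟩
    exact (hgE.mul (pE_isE he)).eq ((pE_isE h.1.1).mul hgE) h.1.2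
  have hgw : ∀ w, w < 64 → (gWL.getD j []).getD w 0 < 64 ∧ pgP j (vP w) = vP ((gWL.getD j []).getD w 0) := by
    intro w hw
    have h := List.all_eq_true.mp hg.1 w (List.mem_range.mpr hw)
    simp only [Bool.and_eq_true, Nat.blt_eq] at h
    exact ⟨h.1, by rw [vP, hgE.apply_vecN, Nat.eq_of_beq_eq_true h.2]; rfl⟩
  have hAe : ∀ a ∈ D.Ae, c * a * c⁻¹ ∈ D.Ae := fun a ha => D.conj_Ae (fun p hp => by
      obtain ⟨e, he, rfl⟩ := pE_surj hp
      rw [hc, (hge e he).2]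
      exact pE_mem (hge e he).1) (fun v hv => by
      rw [hc]
      exact (hU _).mp (by rw [Perm.inv_def, Equiv.apply_symm_apply]; exact hv)) ha
  have hlin : ∀ (k : K) v, pgP j (k • v) = k • pgP j v := fun k v => by
    obtain ⟨g, -, hg'⟩ := id hKL
    rw [← hg', (isIso_lin g).smul]
  have hcx' : c⁻¹ * D.x * c = D.x := by
    conv_lhs => rw [← hcx]
    group
  have hsL : ∀ v, c * D.sL v * c⁻¹ = D.sL (pgP j v) := by
    intro v
    obtain ⟨q, hq⟩ := D.pi_surj (K.w • v)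
    rw [← D.sL_eq hq, ← D.sL_eq (q := conjQ c q) (by rw [← D.th_pi, hc, hq, hlin])]
    show _ = D.x * (c * (q : Cz z) * c⁻¹) * D.x⁻¹ * (c * (q : Cz z) * c⁻¹)
    conv_rhs => rw [← hcx]
    group
  refine ⟨c, hAe, fun e he => ?_⟩
  obtain ⟨h1, h2, h3⟩ := D.aF_spec hR he
  obtain ⟨he', hconj⟩ := hge e he
  obtain ⟨k1, k2, k3⟩ := D.aF_spec hR he'
  obtain ⟨t, ht⟩ := D.fixed_unique hR k1 (hAe _ h1) (by rw [map_mul, map_mul, map_inv, hc, h2, hconj, k2]) k3 (by
    calc D.x * (c * D.aF hR e * c⁻¹) * D.x⁻¹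
        = c * ((c⁻¹ * D.x * c) * D.aF hR e * (c⁻¹ * D.x * c)⁻¹) * c⁻¹ := by group
      _ = _ := by rw [hcx', h3])
  refine ⟨t, fun w hw i => ?_⟩
  rw [el, el, ← (hgw w hw).2, ← hsL, D.zp_add]
  calc c * (D.aF hR e * (D.sL (vP w) * D.zp i)) * c⁻¹
      = (c * D.aF hR e * c⁻¹) * (c * D.sL (vP w) * (D.zp i * c⁻¹)) := by group
    _ = (c * D.aF hR e * c⁻¹) * ((c * D.sL (vP w) * c⁻¹) * D.zp i) := by rw [← D.zp_comm c⁻¹]; group
    _ = _ := by
      rw [ht, mul_assoc, ← mul_assoc (D.zp t), ← D.zp_comm (c * D.sL (vP w) * c⁻¹) t, mul_assoc _ (D.zp t),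
        ← D.zp_comm (D.zp i) t]

end Data

end CfsgLib.Fi24Q
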