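import Cfsg.Agent.Lib.Fi24Q.SylowAbelian

/-!
Coordinates on the largest elementary abelian two-subgroup of the centralizer in a group of large Fischer type and
the action of the core on it.
-/

set_option autoImplicit false
set_option linter.unusedSectionVars false

namespace CfsgLib.Fi24Q

open Matrix CfsgLib.G24 CfsgLib.SUSixSub Equiv
open scoped commutatorElement

attribute [local irreducible] T0

/-- The bit of a scalar. -/
def tb (k : K) : ZMod 2 := if k = 0 then 0 else 1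

/-- The commutation bit of two vectors. -/
def beta (u v : V) : ZMod 2 := tb (hV u v + hV v u)

/-- The squaring bit of a vector. -/
def qf (u : V) : ZMod 2 := tb (hV u u)

theorem hV_addL (u v w : V) : hV (u + v) w = hV u w + hV v w := by
  simp only [hV_eq, dot_eq, dotProduct, Pi.add_apply, add_mul, Finset.sum_add_distrib]

theorem hV_addR (u v w : V) : hV u (v + w) = hV u v + hV u w := by
  rw [← hV_swap (v + w) u, hV_addL, cjK_add, hV_swap, hV_swap]

theorem hV_smulL (k : K) (u v : V) : hV (k • u) v = k * hV u v := by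
  simp only [hV_eq, dot_eq, dotProduct, Pi.smul_apply, smul_eq_mul, Finset.mul_sum, mul_assoc]

theorem hV_smulR (k : K) (u v : V) : hV u (k • v) = cjK k * hV u v := by
  rw [← hV_swap (k • v) u, hV_smulL, cjK_mul, hV_swap]

theorem hV_zeroL (v : V) : hV 0 v = 0 := by
  have h := hV_smulL 0 0 v
  rwa [zero_smul, zero_mul] at h

theorem V_self (v : V) : v + v = 0 := funext fun i => (show ∀ a : K, a + a = 0 by decide) (v i)

theorem tb_add : ∀ a b : K, cjK a = a → cjK b = b → tb (a + b) = tb a + tb b := by decide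

theorem K_tr_fix : ∀ a : K, cjK (a + cjK a) = a + cjK a := by decide

theorem beta_addR (u v w : V) : beta u (v + w) = beta u v + beta u w := by
  rw [beta, beta, beta, hV_addR, hV_addL, add_add_add_comm]
  apply tb_add <;> rw [← hV_swap u, K_tr_fix]

theorem beta_zeroR (u : V) : beta u 0 = 0 := by
  have h := beta_addR u 0 0
  rw [add_zero] at h
  exact (left_eq_add.mp h)

theorem beta_comm (u v : V) : beta u v = beta v u := by rw [beta, beta, add_comm]

theorem qf_add (u v : V) : qf (u + v) = qf u + qf v + beta u v := by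
  have e : hV (u + v) (u + v) = hV u u + hV v v + (hV u v + hV v u) := by rw [hV_addL, hV_addR, hV_addR]; ring
  have f1 : cjK (hV u u) = hV u u := hV_swap u u
  have f2 : cjK (hV v v) = hV v v := hV_swap v v
  rw [qf, e, tb_add _ _ (by rw [cjK_add, f1, f2]) (by rw [← hV_swap u v, K_tr_fix]), tb_add _ _ f1 f2]
  rfl

variable {G : Type*} [Group G] [Finite G] {z : G} {Q : Subgroup (Cz z)} [hQn : Q.Normal]

namespace Data

variable (D : Data z Q)

/-- The involution in the centralizer. -/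
abbrev zz : Cz z := ((D.zq : Q) : Cz z)

theorem zz_sq : D.zz * D.zz = 1 := congrArg Subtype.val D.ext2.zz

theorem zz_comm (g : Cz z) : g * D.zz = D.zz * g := Subtype.ext (by
  rw [Subgroup.coe_mul, Subgroup.coe_mul, D.coe_zq]; exact Subgroup.mem_centralizer_singleton_iff.mp g.2)

theorem zz_ne : D.zz ≠ 1 := fun e => D.ext2.ne (Subtype.ext e)

/-- Powers of the involution. -/
def zp (i : ZMod 2) : Cz z := if i = 0 then 1 else D.zz

theorem zp_add (i j : ZMod 2) : D.zp (i + j) = D.zp i * D.zp j := by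
  rcases (show ∀ a : ZMod 2, a = 0 ∨ a = 1 by decide) i with rfl | rfl <;>
    rcases (show ∀ a : ZMod 2, a = 0 ∨ a = 1 by decide) j with rfl | rfl <;>
    simp [zp, D.zz_sq, show (1 : ZMod 2) + 1 = 0 from rfl]

theorem zp_inj {i j : ZMod 2} (h : D.zp i = D.zp j) : i = j := by
  rcases (show ∀ a : ZMod 2, a = 0 ∨ a = 1 by decide) i with rfl | rfl <;>
    rcases (show ∀ a : ZMod 2, a = 0 ∨ a = 1 by decide) j with rfl | rfl <;>
    first | rfl | exact absurd h.symm (by simpa [zp] using D.zz_ne) | exact absurd h (by simpa [zp] using D.zz_ne)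

theorem zp_comm (g : Cz z) (i : ZMod 2) : g * D.zp i = D.zp i * g := by
  unfold zp; split_ifs
  · rw [mul_one, one_mul]
  · exact D.zz_comm g

theorem zp_zero : D.zp 0 = 1 := if_pos rfl

theorem zp_one : D.zp 1 = D.zz := if_neg one_ne_zero

theorem sq_eq (a : Q) : (a : Cz z) * a = D.zp (qf (D.pi a)) := by
  by_cases h : hV (D.pi a) (D.pi a) = 0
  · rw [qf, tb, if_pos h, D.zp_zero]
    exact congrArg Subtype.val ((D.sq_iff a).mpr h)
  · rw [qf, tb, if_neg h, D.zp_one]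
    exact congrArg Subtype.val ((D.ext2.sq a).resolve_left fun e => h ((D.sq_iff a).mp e))

theorem comm_eq (a b : Q) : (a : Cz z) * b = (b : Cz z) * a * D.zp (beta (D.pi a) (D.pi b)) := by
  have h := D.sq_eq (a * b)
  rw [D.pi_mul, qf_add, D.zp_add, D.zp_add, ← D.sq_eq, ← D.sq_eq, Subgroup.coe_mul] at h
  have h1 : (b : Cz z) * a = (a : Cz z) * b * D.zp (beta (D.pi a) (D.pi b)) := by
    apply mul_left_cancel (a := (a : Cz z))
    apply mul_right_cancel (b := (b : Cz z))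
    calc (a : Cz z) * ((b : Cz z) * a) * b = (a : Cz z) * b * (a * b) := by group
      _ = (a : Cz z) * a * ((b : Cz z) * b) * D.zp (beta (D.pi a) (D.pi b)) := h
      _ = (a : Cz z) * ((a : Cz z) * b) * (b * D.zp (beta (D.pi a) (D.pi b))) := by group
      _ = (a : Cz z) * ((a : Cz z) * b) * (D.zp (beta (D.pi a) (D.pi b)) * b) := by rw [D.zp_comm]
      _ = _ := by group
  rw [h1, mul_assoc, ← D.zp_add, CharTwo.add_self_eq_zero, D.zp_zero, mul_one]

theorem conj_core (q w : Q) : (q : Cz z) * w * (q : Cz z)⁻¹ = (w : Cz z) * D.zp (beta (D.pi q) (D.pi w)) := by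
  rw [D.comm_eq q w, mul_assoc ((w : Cz z) * q), ← D.zp_comm (q : Cz z)⁻¹]
  group

theorem pi_x (q : Q) : D.pi (conjQ D.x q) = K.w • D.pi q := by rw [← D.th_pi, D.x_act]

theorem pi_zero_cases {c : Cz z} {hc : c ∈ Q} (h : D.pi ⟨c, hc⟩ = 0) : ∃ i, c = D.zp i := by
  rcases (D.pi_ker _).mp h with e | e
  · exact ⟨0, (congrArg Subtype.val e).trans D.zp_zero.symm⟩
  · exact ⟨1, (congrArg Subtype.val e).trans D.zp_one.symm⟩

/-- The lift of a plane vector in the part moved by the scalar element. -/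
noncomputable def sL (v : V) : Cz z :=
  D.x * ((Function.surjInv D.pi_surj (K.w • v) : Q) : Cz z) * D.x⁻¹ * ((Function.surjInv D.pi_surj (K.w • v) : Q) : Cz z)

theorem sL_eq {v : V} {q : Q} (h : D.pi q = K.w • v) : D.x * (q : Cz z) * D.x⁻¹ * q = D.sL v := by
  have h1 : D.pi (Function.surjInv D.pi_surj (K.w • v)) = D.pi q := (Function.surjInv_eq D.pi_surj _).trans h.symm
  rcases D.toPre.pi_eq.mp h1.symm with e | e
  · rw [sL, e]
  · rw [sL, e, Subgroup.coe_mul]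
    show _ = D.x * ((q : Cz z) * D.zz) * D.x⁻¹ * ((q : Cz z) * D.zz)
    have h2 : D.x * ((q : Cz z) * D.zz) * D.x⁻¹ = D.x * (q : Cz z) * D.x⁻¹ * D.zz := by
      rw [← mul_assoc, mul_assoc (D.x * (q : Cz z)), ← D.zz_comm D.x⁻¹, ← mul_assoc]
    rw [h2, mul_assoc (D.x * (q : Cz z) * D.x⁻¹), ← mul_assoc D.zz, ← D.zz_comm (q : Cz z), mul_assoc (q : Cz z),
      D.zz_sq, mul_one]

theorem sL_mem (v : V) : D.sL v ∈ Q := mul_mem (hQn.conj_mem _ (SetLike.coe_mem _) _) (SetLike.coe_mem _)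

theorem pi_sL (v : V) : D.pi ⟨D.sL v, D.sL_mem v⟩ = v := by
  set q := Function.surjInv D.pi_surj (K.w • v) with hq
  have e : (⟨D.sL v, D.sL_mem v⟩ : Q) = conjQ D.x q * q := rfl
  rw [e, D.pi_mul, D.pi_x, show D.pi q = K.w • v from Function.surjInv_eq D.pi_surj _, smul_smul, ← add_smul,
    show K.w * K.w + K.w = (1 : K) from rfl, one_smul]

theorem sL_Kc {v : V} (hv : v ∈ Uset) : D.sL v ∈ D.Kc := ⟨D.sL_mem v, by rw [D.pi_sL]; exact hv⟩

theorem sL_add {u v : V} (hu : u ∈ Uset) (hv : v ∈ Uset) : D.sL (u + v) = D.sL u * D.sL v := by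
  obtain ⟨p, hp⟩ := D.pi_surj (K.w • u)
  obtain ⟨q, hq⟩ := D.pi_surj (K.w • v)
  have hpK : (p : Cz z) ∈ D.Kc := D.mem_Kc.mpr (hp ▸ Uset_smul _ hu)
  have hqK : D.x * (q : Cz z) * D.x⁻¹ ∈ D.Kc :=
    (D.mem_Kc (a := conjQ D.x q)).mpr (by rw [D.pi_x, hq, smul_smul]; exact Uset_smul _ hv)
  rw [← D.sL_eq (q := p * q) (by rw [D.pi_mul, hp, hq, smul_add]), ← D.sL_eq hp, ← D.sL_eq hq, Subgroup.coe_mul]
  calc D.x * ((p : Cz z) * q) * D.x⁻¹ * ((p : Cz z) * q)
      = D.x * (p : Cz z) * D.x⁻¹ * ((D.x * (q : Cz z) * D.x⁻¹) * p) * q := by group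
    _ = D.x * (p : Cz z) * D.x⁻¹ * ((p : Cz z) * (D.x * (q : Cz z) * D.x⁻¹)) * q := by rw [D.Kc_comm hqK hpK]
    _ = _ := by group

theorem sL_zero : D.sL 0 = 1 := left_eq_mul.mp (by rw [← D.sL_add Uset_zero Uset_zero, add_zero])

theorem sL_x {v : V} : D.x * D.sL v * D.x⁻¹ = D.sL (K.w • v) := by
  obtain ⟨q, hq⟩ := D.pi_surj (K.w • v)
  rw [← D.sL_eq hq, ← D.sL_eq (q := conjQ D.x q) (by rw [D.pi_x, hq])]
  simp only [conjQ]
  group

theorem sL_zp_inj {u v : V} {i j : ZMod 2} (h : D.sL u * D.zp i = D.sL v * D.zp j) : u = v ∧ i = j := by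
  have hz : ∀ i, D.zp i ∈ Q := fun i => by
    unfold zp; split_ifs
    exacts [one_mem _, SetLike.coe_mem _]
  have hp : ∀ i, D.pi ⟨D.zp i, hz i⟩ = 0 := fun i => by
    refine (D.pi_ker _).mpr ?_
    rcases (show ∀ a : ZMod 2, a = 0 ∨ a = 1 by decide) i with rfl | rfl
    exacts [Or.inl (Subtype.ext D.zp_zero), Or.inr (Subtype.ext D.zp_one)]
  have h1 : (⟨D.sL u, D.sL_mem u⟩ : Q) * ⟨D.zp i, hz i⟩ = ⟨D.sL v, D.sL_mem v⟩ * ⟨D.zp j, hz j⟩ := Subtype.ext h
  have h2 := congrArg D.pi h1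
  rw [D.pi_mul, D.pi_mul, D.pi_sL, D.pi_sL, hp, hp, add_zero, add_zero] at h2
  subst h2
  exact ⟨rfl, D.zp_inj (mul_left_cancel h)⟩

theorem Kc_decomp {c : Cz z} (hc : c ∈ D.Kc) : ∃ v ∈ Uset, ∃ i, c = D.sL v * D.zp i := by
  obtain ⟨hq, hu⟩ := hc
  refine ⟨_, hu, ?_⟩
  obtain ⟨i, hi⟩ := D.pi_zero_cases (c := (D.sL (D.pi ⟨c, hq⟩))⁻¹ * c)
    (hc := mul_mem (inv_mem (D.sL_mem _)) hq) (by
      rw [show (⟨(D.sL (D.pi ⟨c, hq⟩))⁻¹ * c, mul_mem (inv_mem (D.sL_mem _)) hq⟩ : Q) =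
        (⟨_, D.sL_mem (D.pi ⟨c, hq⟩)⟩ : Q)⁻¹ * ⟨c, hq⟩ from rfl, D.pi_mul, D.pi_inv, D.pi_sL, V_self])
  exact ⟨i, by rw [← hi, mul_inv_cancel_left]⟩

theorem sL_conj (q : Q) {v : V} : (q : Cz z) * D.sL v * (q : Cz z)⁻¹ = D.sL v * D.zp (beta (D.pi q) v) := by
  rw [show D.sL v = ((⟨D.sL v, D.sL_mem v⟩ : Q) : Cz z) from rfl, D.conj_core, D.pi_sL]

theorem x_facts {p : Perm V} (hp : p ∈ A0f) : D.th D.x * p * (D.th D.x)⁻¹ = p ∧
    (∀ v ∈ Uset, (D.th D.x)⁻¹ v ∈ Uset) := by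
  have hxi : ∀ v, (D.th D.x)⁻¹ v = K.v • v := fun v => by
    rw [Perm.inv_def, Equiv.symm_apply_eq, D.x_act, smul_smul]
    exact (one_smul K v).symm
  refine ⟨Equiv.ext fun v => ?_, fun v hv => by rw [hxi]; exact Uset_smul _ hv⟩
  rw [Perm.mul_apply, Perm.mul_apply, hxi, A0f_smul hp, D.x_act, smul_smul]
  exact one_smul K _

theorem x_Ae {a : Cz z} (ha : a ∈ D.Ae) : D.x * a * D.x⁻¹ ∈ D.Ae ∧ D.th (D.x * a * D.x⁻¹) = D.th a := by
  refine ⟨D.conj_Ae (fun p hp => by rw [(D.x_facts hp).1]; exact hp) (D.x_facts (one_mem A0f)).2 ha, ?_⟩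
  rw [map_mul, map_mul, map_inv, (D.x_facts ha.1).1]

theorem core_Ae (q : Q) {a : Cz z} (ha : a ∈ D.Ae) : (q : Cz z) * a * (q : Cz z)⁻¹ ∈ D.Ae := by
  have h1 : D.th (q : Cz z) = 1 := (D.th_ker _).mpr q.2
  refine D.conj_Ae (fun p hp => by rw [h1]; simpa using hp) (fun v hv => by rw [h1, inv_one]; exact hv) ha

theorem Ae_Q {c : Cz z} (hc : c ∈ D.Ae) (h : D.th c = 1) : c ∈ D.Kc := by
  rw [← D.Ae_inf]; exact ⟨hc, (D.th_ker c).mp h⟩

variable (hR : D.R = Sg)

include hR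

theorem Ae_comm {a b : Cz z} (ha : a ∈ D.Ae) (hb : b ∈ D.Ae) : a * b = b * a :=
  Data.comm_of_sq (fun c hc => D.Ae_sq hR hc) ha hb

/-- Lifts commuting with the scalar element. -/
theorem exists_fixed {p : Perm V} (hp : p ∈ A0f) : ∃ a ∈ D.Ae, D.th a = p ∧ D.x * a * D.x⁻¹ = a := by
  obtain ⟨a, ha, rfl⟩ : p ∈ D.Ae.map D.th := (D.Ae_map hR).1.symm ▸ hp
  obtain ⟨hxa, hth⟩ := D.x_Ae ha
  obtain ⟨v, hv, i, e⟩ := D.Kc_decomp (D.Ae_Q (mul_mem (inv_mem ha) hxa) (by rw [map_mul, map_inv, hth, inv_mul_cancel]))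
  have h1 : D.x * a * D.x⁻¹ = a * (D.sL v * D.zp i) := by rw [← e, mul_inv_cancel_left]
  have hx3 : D.x * D.x * D.x = 1 := by rw [← D.x_three]; simp [pow_succ]
  have hzx : D.x * D.zp i * D.x⁻¹ = D.zp i := by rw [D.zp_comm, mul_inv_cancel_right]
  have hcy : ∀ u ∈ Uset, D.x * (a * (D.sL u * D.zp i)) * D.x⁻¹ = a * (D.sL v * D.zp i) * (D.sL (K.w • u) * D.zp i) := by
    intro u _
    calc D.x * (a * (D.sL u * D.zp i)) * D.x⁻¹
        = (D.x * a * D.x⁻¹) * ((D.x * D.sL u * D.x⁻¹) * (D.x * D.zp i * D.x⁻¹)) := by group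
      _ = _ := by rw [h1, D.sL_x, hzx]
  have hi : i = 0 := by
    have e2 : D.x * (D.x * a * D.x⁻¹) * D.x⁻¹ = a * (D.sL (v + K.w • v) * D.zp 0) := by
      rw [h1, hcy v hv, D.sL_add hv (Uset_smul _ hv), D.zp_zero, mul_one]
      calc a * (D.sL v * D.zp i) * (D.sL (K.w • v) * D.zp i)
          = a * (D.sL v * (D.zp i * D.sL (K.w • v)) * D.zp i) := by group
        _ = a * (D.sL v * D.sL (K.w • v) * (D.zp i * D.zp i)) := by rw [← D.zp_comm]; group
        _ = _ := by rw [← D.zp_add, CharTwo.add_self_eq_zero, D.zp_zero, mul_one]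
    have e3 : D.x * (D.x * (D.x * a * D.x⁻¹) * D.x⁻¹) * D.x⁻¹ = a := by
      calc D.x * (D.x * (D.x * a * D.x⁻¹) * D.x⁻¹) * D.x⁻¹ = (D.x * D.x * D.x) * a * (D.x * D.x * D.x)⁻¹ := by group
        _ = a := by rw [hx3]; group
    rw [e2, D.zp_zero, mul_one] at e3
    have e4 : D.x * (a * D.sL (v + K.w • v)) * D.x⁻¹ = a * (D.sL 0 * D.zp i) := by
      calc D.x * (a * D.sL (v + K.w • v)) * D.x⁻¹
          = (D.x * a * D.x⁻¹) * (D.x * D.sL (v + K.w • v) * D.x⁻¹) := by group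
        _ = a * (D.sL v * (D.zp i * D.sL (K.w • (v + K.w • v)))) := by rw [h1, D.sL_x]; group
        _ = a * (D.sL v * D.sL (K.w • (v + K.w • v)) * D.zp i) := by rw [← D.zp_comm]; group
        _ = _ := by
          rw [← D.sL_add hv (Uset_smul _ (Uset_add hv (Uset_smul _ hv)))]
          congr 3
          rw [smul_add, smul_smul, ← add_assoc]
          funext k
          exact (show ∀ t : K, t + K.w * t + K.w * K.w * t = 0 by decide) (v k)
    rw [e3] at e4
    have e5 : D.sL 0 * D.zp i = D.sL 0 * D.zp 0 := by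
      rw [mul_left_cancel ((mul_one a).trans e4 : a * 1 = _).symm, D.sL_zero, D.zp_zero, mul_one]
    exact (D.sL_zp_inj e5).2
  subst hi
  rw [D.zp_zero, mul_one] at h1
  refine ⟨a * D.sL (K.w • v), mul_mem ha (D.Ae_inf.symm ▸ D.sL_Kc (Uset_smul _ hv) : _ ∈ D.Ae ⊓ Q).1, ?_, ?_⟩
  · rw [map_mul, (D.th_ker _).mpr (D.sL_mem _), mul_one]
  · calc D.x * (a * D.sL (K.w • v)) * D.x⁻¹ = (D.x * a * D.x⁻¹) * (D.x * D.sL (K.w • v) * D.x⁻¹) := by group
      _ = a * (D.sL v * D.sL (K.w • K.w • v)) := by rw [h1, D.sL_x, mul_assoc]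
      _ = _ := by
        rw [← D.sL_add hv (Uset_smul _ (Uset_smul _ hv))]
        congr 2
        rw [smul_smul]
        funext k
        exact (show ∀ t : K, t + K.w * K.w * t = K.w * t by decide) (v k)

theorem fixed_unique {a b : Cz z} (ha : a ∈ D.Ae) (hb : b ∈ D.Ae) (h : D.th a = D.th b)
    (hxa : D.x * a * D.x⁻¹ = a) (hxb : D.x * b * D.x⁻¹ = b) : ∃ i, b = a * D.zp i := by
  obtain ⟨v, hv, i, e⟩ := D.Kc_decomp (D.Ae_Q (mul_mem (inv_mem ha) hb) (by rw [map_mul, map_inv, h, inv_mul_cancel]))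
  have h1 : D.x * (a⁻¹ * b) * D.x⁻¹ = a⁻¹ * b := by
    calc D.x * (a⁻¹ * b) * D.x⁻¹ = (D.x * a * D.x⁻¹)⁻¹ * (D.x * b * D.x⁻¹) := by group
      _ = _ := by rw [hxa, hxb]
  rw [e] at h1
  have h2 : D.sL (K.w • v) * D.zp i = D.sL v * D.zp i := by
    rw [← h1, ← D.sL_x]
    calc D.x * D.sL v * D.x⁻¹ * D.zp i = D.x * D.sL v * (D.x⁻¹ * D.zp i) := by group
      _ = _ := by rw [D.zp_comm]; group
  have h3 : v = 0 := funext fun k =>
    (show ∀ t : K, K.w * t = t → t = 0 by decide) _ (congrFun (D.sL_zp_inj h2).1 k)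
  exact ⟨i, by rw [← mul_inv_cancel_left a b, e, h3, D.sL_zero, one_mul]⟩

/-- Conjugation of a fixed lift by the core. -/
theorem conj_fixed {a : Cz z} (ha : a ∈ D.Ae) (hxa : D.x * a * D.x⁻¹ = a) (q : Q) :
    D.th a (D.pi q) + D.pi q ∈ Uset ∧
    (q : Cz z) * a * (q : Cz z)⁻¹ = a * (D.sL (D.th a (D.pi q) + D.pi q) *
      D.zp (tb (hV (D.th a (D.pi q) + D.pi q) (D.pi q)))) := by
  set p := D.th a with hp
  have haa : a * a = 1 := D.Ae_sq hR ha
  have hpA : p ∈ A0f := ha.1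
  have hpp : ∀ v, p (p v) = v := fun v => by
    rw [← Perm.mul_apply, hp, ← map_mul, haa, map_one]; rfl
  have hiso : IsIso p := by
    rcases D.kind a with h | h
    · exact h
    · exfalso
      have h1 : K.v • p t0 = K.w • p t0 := by
        exact (h.smul K.w t0).symm.trans (A0f_smul hpA K.w t0)
      have h2 : p t0 = 0 := funext fun k =>
        (show ∀ t : K, K.v * t = K.w * t → t = 0 by decide) _ (congrFun h1 k)
      exact ((sing_iff t0).mp (Or.inl t0_mem)).1 (by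
        rw [← hpp t0, h2]; have := h.add 0 0; rwa [add_zero, left_eq_add] at this)
  let cc : Q → Cz z := fun q => a * ((q : Cz z) * a * (q : Cz z)⁻¹)
  have hccm : ∀ q, cc q ∈ D.Kc := fun q => D.Ae_Q (mul_mem ha (D.core_Ae q ha)) (by
    show D.th (a * _) = 1
    rw [map_mul, map_mul, map_mul, map_inv, (D.th_ker _).mpr q.2]
    simp only [one_mul, inv_one, mul_one]
    rw [← map_mul, haa, map_one])
  have hccpi : ∀ q, D.pi ⟨cc q, (hccm q).1⟩ = p (D.pi q) + D.pi q := fun q => by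
    rw [show (⟨cc q, (hccm q).1⟩ : Q) = conjQ a q * q⁻¹ from Subtype.ext (by
      show a * ((q : Cz z) * a * (q : Cz z)⁻¹) = a * (q : Cz z) * a⁻¹ * (q : Cz z)⁻¹
      rw [inv_eq_of_mul_eq_one_right haa]; group), D.pi_mul, D.pi_inv, ← D.th_pi]
  have hex : ∀ q, ∃ i, cc q = D.sL (p (D.pi q) + D.pi q) * D.zp i := fun q => by
    obtain ⟨v, -, i, e⟩ := D.Kc_decomp (hccm q)
    refine ⟨i, ?_⟩
    suffices v = p (D.pi q) + D.pi q by rw [← this, e]
    have hz : D.zp i ∈ Q := by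
      unfold zp; split_ifs
      exacts [one_mem _, SetLike.coe_mem _]
    have hzp : D.pi ⟨D.zp i, hz⟩ = 0 := by
      refine (D.pi_ker _).mpr ?_
      rcases (show ∀ a : ZMod 2, a = 0 ∨ a = 1 by decide) i with rfl | rfl
      exacts [Or.inl (Subtype.ext D.zp_zero), Or.inr (Subtype.ext D.zp_one)]
    rw [← hccpi q, show (⟨cc q, (hccm q).1⟩ : Q) = ⟨D.sL v, D.sL_mem v⟩ * ⟨D.zp i, hz⟩ from Subtype.ext e,
      D.pi_mul, D.pi_sL, hzp, add_zero]
  choose bit hbit using hex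
  let g : V → ZMod 2 := fun u => tb (hV (p u + u) u)
  let ga : Q → ZMod 2 := fun q => bit q + g (D.pi q)
  have hga : ∀ q q', ga (q * q') = ga q + ga q' := by
    intro q q'
    have hu : ∀ q, p (D.pi q) + D.pi q ∈ Uset := fun q => hccpi q ▸ (hccm q).2
    have h1 : cc (q * q') = cc q * ((q : Cz z) * cc q' * (q : Cz z)⁻¹) := by
      show a * ((((q * q' : Q) : Cz z)) * a * (((q * q' : Q) : Cz z))⁻¹) =
        a * ((q : Cz z) * a * (q : Cz z)⁻¹) * ((q : Cz z) * (a * ((q' : Cz z) * a * (q' : Cz z)⁻¹)) * (q : Cz z)⁻¹)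
      rw [Subgroup.coe_mul]
      calc a * ((q : Cz z) * q' * a * ((q : Cz z) * q')⁻¹)
          = a * ((q : Cz z) * (a * a) * ((q' : Cz z) * a * (q' : Cz z)⁻¹) * (q : Cz z)⁻¹) := by rw [haa]; group
        _ = _ := by group
    rw [hbit, hbit, hbit] at h1
    have h2 : D.sL (p (D.pi (q * q')) + D.pi (q * q')) * D.zp (bit (q * q')) =
        D.sL (p (D.pi (q * q')) + D.pi (q * q')) * D.zp (bit q + bit q' + beta (D.pi q) (p (D.pi q') + D.pi q')) := by
      rw [h1, show (q : Cz z) * (D.sL (p (D.pi q') + D.pi q') * D.zp (bit q')) * (q : Cz z)⁻¹ =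
        (q : Cz z) * D.sL (p (D.pi q') + D.pi q') * (q : Cz z)⁻¹ * D.zp (bit q') by
          calc _ = (q : Cz z) * D.sL (p (D.pi q') + D.pi q') * (D.zp (bit q') * (q : Cz z)⁻¹) := by group
            _ = _ := by rw [← D.zp_comm]; group, D.sL_conj, D.pi_mul, hiso.add,
        show p (D.pi q) + p (D.pi q') + (D.pi q + D.pi q') = (p (D.pi q) + D.pi q) + (p (D.pi q') + D.pi q') by abel,
        D.sL_add (hu q) (hu q'), D.zp_add, D.zp_add]
      calc D.sL (p (D.pi q) + D.pi q) * D.zp (bit q) *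
            (D.sL (p (D.pi q') + D.pi q') * D.zp (beta (D.pi q) (p (D.pi q') + D.pi q')) * D.zp (bit q'))
          = D.sL (p (D.pi q) + D.pi q) * (D.zp (bit q) * D.sL (p (D.pi q') + D.pi q')) *
            (D.zp (beta (D.pi q) (p (D.pi q') + D.pi q')) * D.zp (bit q')) := by group
        _ = _ := by
          rw [← D.zp_comm (D.sL (p (D.pi q') + D.pi q')) (bit q), D.zp_comm (D.zp (beta _ _))]
          group
    have h3 := D.zp_inj (mul_left_cancel h2)
    have hg : g (D.pi (q * q')) = g (D.pi q) + g (D.pi q') + beta (D.pi q) (p (D.pi q') + D.pi q') := by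
      have hsym : ∀ u v, hV (p u) v = hV u (p v) := fun u v => by
        conv_lhs => rw [← hpp v]
        exact hiso.form u (p v)
      have hfix : ∀ u, cjK (hV (p u + u) u) = hV (p u + u) u := fun u => by
        rw [hV_swap, hV_addR, hV_addL, hsym]
      show tb _ = tb _ + tb _ + tb _
      set u := D.pi q
      set v := D.pi q'
      rw [D.pi_mul, hiso.add, ← tb_add _ _ (hfix u) (hfix v),
        ← tb_add _ _ (by rw [cjK_add, hfix, hfix]) (by rw [← hV_swap u, K_tr_fix])]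
      congr 1
      simp only [hV_addL, hV_addR, hsym]
      ring
    show bit (q * q') + g _ = bit q + g _ + (bit q' + g _)
    rw [h3, hg]
    linear_combination (CharTwo.add_self_eq_zero (beta (D.pi q) (p (D.pi q') + D.pi q')) : _ = (0 : ZMod 2))
  have hgx : ∀ q, ga (conjQ D.x q) = ga q := by
    intro q
    have h1 : cc (conjQ D.x q) = D.x * cc q * D.x⁻¹ := by
      show a * ((D.x * (q : Cz z) * D.x⁻¹) * a * (D.x * (q : Cz z) * D.x⁻¹)⁻¹) =
        D.x * (a * ((q : Cz z) * a * (q : Cz z)⁻¹)) * D.x⁻¹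
      conv_lhs => rw [← hxa]
      group
    rw [hbit, hbit, D.pi_x] at h1
    have h2 : D.sL (p (K.w • D.pi q) + K.w • D.pi q) * D.zp (bit (conjQ D.x q)) =
        D.sL (p (K.w • D.pi q) + K.w • D.pi q) * D.zp (bit q) := by
      rw [h1, hiso.smul, ← smul_add, ← D.sL_x]
      calc D.x * (D.sL (p (D.pi q) + D.pi q) * D.zp (bit q)) * D.x⁻¹
          = D.x * D.sL (p (D.pi q) + D.pi q) * (D.zp (bit q) * D.x⁻¹) := by group
        _ = _ := by rw [← D.zp_comm]; group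
    show bit _ + tb _ = bit q + tb _
    rw [D.zp_inj (mul_left_cancel h2), D.pi_x, hiso.smul, ← smul_add, hV_smulL, hV_smulR, ← mul_assoc,
      show K.w * cjK K.w = (1 : K) from rfl, one_mul]
  have hgz : ∀ q, ga q = 0 := by
    intro q
    have h1 : ∀ w : Q, D.pi w = 0 → ga w = 0 := by
      intro w hw
      obtain ⟨i, hi⟩ := D.pi_zero_cases (c := (w : Cz z)) (hc := w.2) hw
      have hc1 : cc w = D.sL 0 * D.zp 0 := by
        rw [D.sL_zero, D.zp_zero, mul_one]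
        show a * _ = 1
        rw [hi, ← D.zp_comm a i, mul_inv_cancel_right, haa]
      have hp0 : p (D.pi w) + D.pi w = 0 := by
        rw [hw, add_zero]; have := hiso.add 0 0; rwa [add_zero, left_eq_add] at this
      rw [hbit, hp0] at hc1
      show bit w + tb _ = 0
      rw [(D.sL_zp_inj hc1).2, hp0, hV_zeroL]
      rfl
    have h2 := hga (q * conjQ D.x q) (conjQ D.x (conjQ D.x q))
    rw [h1 _ (by
      rw [D.pi_mul, D.pi_mul, D.pi_x, D.pi_x, D.pi_x, smul_smul]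
      funext k
      exact (show ∀ t : K, t + K.w * t + K.w * K.w * t = 0 by decide) _), hga, hgx, hgx, hgx] at h2
    rwa [CharTwo.add_self_eq_zero, zero_add, eq_comm] at h2
  refine ⟨hccpi q ▸ (hccm q).2, ?_⟩
  have hb : bit q = g (D.pi q) := by
    have := hgz q
    exact (eq_neg_of_add_eq_zero_left this).trans (ZModModule.neg_eq_self _)
  rw [← show bit q = tb (hV (p (D.pi q) + D.pi q) (D.pi q)) from hb, ← hbit q]
  show _ = a * (a * _)
  rw [← mul_assoc a a, haa, one_mul]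

end Data

end CfsgLib.Fi24Q
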