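import Cfsg.Agent.Lib.Fi24J.Hom

/-!
The Thompson subgroup of a Sylow two-subgroup in a group of large Fischer type and its normalizer.
-/

set_option autoImplicit false
set_option linter.unusedSectionVars false

namespace CfsgLib.Fi24Q

open Matrix CfsgLib.G24 CfsgLib.SUSixSub Equiv CfsgLib.Fi24J
open scoped commutatorElement Pointwise

universe u

variable {G : Type u} [Group G] [Finite G] {z : G} {Q : Subgroup (Cz z)} [hQn : Q.Normal]

/-- The facts about the Thompson subgroup and its normalizer. -/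
structure JFacts (z : G) (A M : Subgroup G) where
  /-- the action on the points -/
  tau : ↥M →* ↥Cfsg.M24
  /-- the coordinates -/
  coord : V11 → G
  elementary : Cfsg.IsElementaryAbelian 2 A
  card : Nat.card A = 2 ^ 11
  surj : Function.Surjective tau
  ker : tau.ker = A.subgroupOf M
  inj : Function.Injective coord
  zero : coord 0 = 1
  mem : ∀ g, g ∈ A ↔ ∃ v, coord v = g
  equiv : ∀ (m : ↥M) (p q : Cfsg.GolayPt), (m : G) * coord (vp p + vp q) * (m : G)⁻¹ =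
    coord (vp ((tau m : Perm Cfsg.GolayPt) p) + vp ((tau m : Perm Cfsg.GolayPt) q))
  duads : ∀ v, IsDuad v ↔ v ≠ 0 ∧ ¬ IsConj z (coord v)
  fusion : ∀ a ∈ A, ∀ g : G, g * a * g⁻¹ ∈ A → ∃ m ∈ M, m * a * m⁻¹ = g * a * g⁻¹
  central : ∃ a ∈ A, a ≠ 1 ∧ IsConj z a

theorem exists_jFacts (hF : Cfsg.IsOfLargeFischerTypeAt z Q) (T : Sylow 2 G) {A M : Subgroup G}
    (hA : A = Cfsg.thompsonSubgroupOf 2 (T : Subgroup G)) (hM : M = Subgroup.normalizer (A : Set G)) :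
    Nonempty (JFacts z A M) := by
  classical
  obtain ⟨D, -⟩ := exists_data hF
  have hR := (D.R_eq hF.1).1
  obtain ⟨g, hg⟩ := D.thompson_eq hR T
  obtain ⟨τ, hsurj, hker, hτ⟩ := D.exists_tau hR hF.1
  rw [hg] at hA
  have hmem : ∀ x, x ∈ A ↔ g⁻¹ * x * g ∈ D.AG := by
    intro x
    rw [hA]
    constructor
    · rintro ⟨a, ha, rfl⟩
      simpa [mul_assoc] using ha
    · exact fun h => ⟨_, h, by simp [mul_assoc]⟩
  have hnorm : ∀ m, m ∈ M ↔ g⁻¹ * m * g ∈ Subgroup.normalizer (D.AG : Set G) := by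
    intro m
    rw [hM, Subgroup.mem_normalizer_iff, Subgroup.mem_normalizer_iff]
    constructor
    · intro h x
      have := h (g * x * g⁻¹)
      rw [hmem, hmem] at this
      rw [show g⁻¹ * (g * x * g⁻¹) * g = x by group,
        show g⁻¹ * (m * (g * x * g⁻¹) * m⁻¹) * g = g⁻¹ * m * g * x * (g⁻¹ * m * g)⁻¹ by group] at this
      exact this
    · intro h x
      rw [hmem, hmem, h (g⁻¹ * x * g),
        show g⁻¹ * m * g * (g⁻¹ * x * g) * (g⁻¹ * m * g)⁻¹ = g⁻¹ * (m * x * m⁻¹) * g by group]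
  let back : ↥M →* ↥(Subgroup.normalizer (D.AG : Set G)) :=
    MonoidHom.mk' (fun m => ⟨g⁻¹ * m * g, (hnorm _).mp m.2⟩) fun a b => Subtype.ext (by
      show g⁻¹ * ((a : G) * b) * g = g⁻¹ * a * g * (g⁻¹ * b * g)
      group)
  have hconj : ∀ x : G, IsConj z (g * x * g⁻¹) ↔ IsConj z x := fun x =>
    ⟨fun h => h.trans (IsConj.symm (isConj_iff.mpr ⟨g, rfl⟩)), fun h => h.trans (isConj_iff.mpr ⟨g, rfl⟩)⟩
  refine ⟨{
    tau := τ.comp back
    coord := fun v => g * D.LV hR v * g⁻¹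
    elementary := ?_
    card := ?_
    surj := hsurj.comp fun n => ⟨⟨g * n * g⁻¹, (hnorm _).mpr (by
      rw [show g⁻¹ * (g * (n : G) * g⁻¹) * g = n by group]; exact n.2)⟩, Subtype.ext (by
      show g⁻¹ * (g * (n : G) * g⁻¹) * g = n
      group)⟩
    ker := ?_
    inj := fun u v h => D.LV_inj hR (mul_left_cancel (mul_right_cancel h))
    zero := by rw [D.LV_zero]; group
    mem := ?_
    equiv := fun m p q => ?_
    duads := fun v => by rw [D.LV_class hR hF.1, hconj]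
    fusion := ?_
    central := ?_ }⟩
  · refine ⟨⟨⟨fun a b => Subtype.ext ?_⟩⟩, fun a ha => ?_⟩
    · show (a : G) * b = b * a
      have h := D.AG_comm hR ((hmem _).mp a.2) ((hmem _).mp b.2)
      calc (a : G) * b = g * ((g⁻¹ * a * g) * (g⁻¹ * b * g)) * g⁻¹ := by group
        _ = _ := by rw [h]; group
    · rw [pow_two]
      have h := D.AG_sq hR ((hmem a).mp ha)
      calc a * a = g * ((g⁻¹ * a * g) * (g⁻¹ * a * g)) * g⁻¹ := by group
        _ = 1 := by rw [h]; group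
  · rw [hA, Subgroup.card_map_of_injective (MulAut.conj g).injective, D.card_AG hR]
  · ext m
    rw [← MonoidHom.comap_ker, hker, Subgroup.mem_comap, Subgroup.mem_subgroupOf, Subgroup.mem_subgroupOf, hmem]
    rfl
  · intro x
    rw [hmem, D.mem_AG_iff hR]
    constructor
    · rintro ⟨v, hv⟩
      exact ⟨v, by rw [hv]; group⟩
    · rintro ⟨v, rfl⟩
      exact ⟨v, by group⟩
  · have h := hτ (back m) p q
    rw [show ((back m : ↥(Subgroup.normalizer (D.AG : Set G))) : G) = g⁻¹ * m * g from rfl] at h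
    show (m : G) * (g * D.LV hR (vp p + vp q) * g⁻¹) * (m : G)⁻¹ = g * _ * g⁻¹
    rw [MonoidHom.comp_apply, ← h]
    group
  · intro a ha h hh
    obtain ⟨n, hn, e⟩ := D.fusion hR ((hmem a).mp ha) (g := g⁻¹ * h * g) (by
      rw [show g⁻¹ * h * g * (g⁻¹ * a * g) * (g⁻¹ * h * g)⁻¹ = g⁻¹ * (h * a * h⁻¹) * g by group]
      exact (hmem _).mp hh)
    refine ⟨g * n * g⁻¹, (hnorm _).mpr (by rw [show g⁻¹ * (g * n * g⁻¹) * g = n by group]; exact hn), ?_⟩
    calc g * n * g⁻¹ * a * (g * n * g⁻¹)⁻¹ = g * (n * (g⁻¹ * a * g) * n⁻¹) * g⁻¹ := by group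
      _ = h * a * h⁻¹ := by rw [e]; group
  · refine ⟨g * z * g⁻¹, (hmem _).mpr (by rw [show g⁻¹ * (g * z * g⁻¹) * g = z by group]; exact D.z_AG), ?_,
      isConj_iff.mpr ⟨g, rfl⟩⟩
    intro e
    have h2 := D.z2
    rw [conj_eq_one_iff.mp e, orderOf_one] at h2
    norm_num at h2

namespace JFacts

variable {A M : Subgroup G} (J : JFacts z A M)

include J

theorem quotient : ∃ _ : (A.subgroupOf M).Normal, Nonempty (↥M ⧸ A.subgroupOf M ≃* ↥Cfsg.M24) := by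
  haveI hn : (A.subgroupOf M).Normal := J.ker ▸ inferInstance
  exact ⟨hn, ⟨(QuotientGroup.quotientMulEquivOfEq J.ker.symm).trans
    (QuotientGroup.quotientKerEquivOfSurjective J.tau J.surj)⟩⟩

theorem orbits : (∃ a ∈ A, a ≠ 1 ∧ ¬ IsConj z a) ∧
    ∀ a ∈ A, ∀ b ∈ A, a ≠ 1 → b ≠ 1 → (IsConj z a ↔ IsConj z b) → ∃ m ∈ M, m * a * m⁻¹ = b := by
  have hduad : ∀ a ∈ A, a ≠ 1 → ¬ IsConj z a → ∃ p q, p ≠ q ∧ J.coord (vp p + vp q) = a := by
    intro a ha h1 hz
    obtain ⟨v, rfl⟩ := (J.mem a).mp ha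
    obtain ⟨p, q, hpq, rfl⟩ := (J.duads v).mpr ⟨fun e => h1 (e ▸ J.zero), hz⟩
    exact ⟨p, q, hpq, rfl⟩
  refine ⟨?_, fun a ha b hb ha1 hb1 hiff => ?_⟩
  · have h : IsDuad (vp none + vp (some 0)) := ⟨none, some 0, by simp, rfl⟩
    obtain ⟨h1, h2⟩ := (J.duads _).mp h
    exact ⟨_, (J.mem _).mpr ⟨_, rfl⟩, fun e => h1 (J.inj (e.trans J.zero.symm)), h2⟩
  · by_cases hz : IsConj z a
    · obtain ⟨g, hg⟩ := isConj_iff.mp (hz.symm.trans (hiff.mp hz))
      obtain ⟨m, hm, e⟩ := J.fusion a ha g (hg ▸ hb)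
      exact ⟨m, hm, e.trans hg⟩
    · obtain ⟨p, q, hpq, rfl⟩ := hduad a ha ha1 hz
      obtain ⟨r, s, hrs, rfl⟩ := hduad b hb hb1 (fun h => hz (hiff.mpr h))
      obtain ⟨σ, h1, h2⟩ := duad_transitive hpq hrs
      obtain ⟨m, rfl⟩ := J.surj σ
      exact ⟨m, m.2, by rw [J.equiv, h1, h2]⟩

theorem stabilizer {t : G} (htA : t ∈ A) (ht2 : orderOf t = 2) (ht : ¬ IsConj z t) :
    ∃ _ : (A.subgroupOf (M ⊓ Subgroup.centralizer ({t} : Set G))).Normal,
      Nonempty (↥(M ⊓ Subgroup.centralizer ({t} : Set G)) ⧸ A.subgroupOf (M ⊓ Subgroup.centralizer ({t} : Set G)) ≃*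
        ↥(Cfsg.M24 ⊓ MulAction.stabilizer (Equiv.Perm Cfsg.GolayPt) ({none, some 0} : Set Cfsg.GolayPt))) := by
  classical
  have ht1 : t ≠ 1 := fun e => by rw [e, orderOf_one] at ht2; norm_num at ht2
  obtain ⟨v, rfl⟩ := (J.mem t).mp htA
  obtain ⟨p, q, hpq, rfl⟩ := (J.duads v).mpr ⟨fun e => ht1 (e ▸ J.zero), ht⟩
  set C := M ⊓ Subgroup.centralizer ({J.coord (vp p + vp q)} : Set G)
  obtain ⟨h, hp, hq⟩ := duad_transitive hpq (show (none : Cfsg.GolayPt) ≠ some 0 by simp)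
  have hcent : ∀ m : ↥M, (m : G) ∈ C ↔
      (J.tau m : Perm Cfsg.GolayPt) '' ({p, q} : Set Cfsg.GolayPt) = {p, q} := by
    intro m
    rw [Subgroup.mem_inf, Subgroup.mem_centralizer_singleton_iff, ← mul_inv_eq_iff_eq_mul, J.equiv, Set.image_pair]
    constructor
    · rintro ⟨-, e⟩
      rcases duad_inj ((J.tau m : Perm Cfsg.GolayPt).injective.ne hpq) hpq (J.inj e) with ⟨a, b⟩ | ⟨a, b⟩
      · rw [a, b]
      · rw [a, b, Set.pair_comm]
    · intro e
      refine ⟨m.2, congrArg J.coord ?_⟩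
      rcases Set.pair_eq_pair_iff.mp e with ⟨a, b⟩ | ⟨a, b⟩
      · rw [a, b]
      · rw [a, b, add_comm]
  have himg : (h : Perm Cfsg.GolayPt) '' ({p, q} : Set Cfsg.GolayPt) = {none, some 0} := by rw [Set.image_pair, hp, hq]
  have hmap : ∀ σ : ↥Cfsg.M24, ((h * σ * h⁻¹ : ↥Cfsg.M24) : Perm Cfsg.GolayPt) ∈
      MulAction.stabilizer (Equiv.Perm Cfsg.GolayPt) ({none, some 0} : Set Cfsg.GolayPt) ↔
      (σ : Perm Cfsg.GolayPt) '' ({p, q} : Set Cfsg.GolayPt) = {p, q} := by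
    intro σ
    rw [MulAction.mem_stabilizer_iff, ← himg]
    have e : ((h * σ * h⁻¹ : ↥Cfsg.M24) : Perm Cfsg.GolayPt) • ((h : Perm Cfsg.GolayPt) '' {p, q}) =
        (h : Perm Cfsg.GolayPt) '' ((σ : Perm Cfsg.GolayPt) '' {p, q}) := by
      show ((h * σ * h⁻¹ : ↥Cfsg.M24) : Perm Cfsg.GolayPt) '' _ = _
      rw [Set.image_image, Set.image_image]
      simp
    rw [e]
    exact (Set.image_injective.mpr (h : Perm Cfsg.GolayPt).injective).eq_iff
  let f : ↥C →* ↥(Cfsg.M24 ⊓ MulAction.stabilizer (Equiv.Perm Cfsg.GolayPt) ({none, some 0} : Set Cfsg.GolayPt)) :=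
    MonoidHom.mk' (fun c => ⟨((h * J.tau (Subgroup.inclusion inf_le_left c) * h⁻¹ : ↥Cfsg.M24) : Perm Cfsg.GolayPt),
      SetLike.coe_mem _, (hmap _).mpr ((hcent _).mp c.2)⟩) fun a b => Subtype.ext (by
        simp only [map_mul, Subgroup.coe_mul, Subgroup.coe_inv]
        group)
  have hf : Function.Surjective f := by
    rintro ⟨σ, hσ, hst⟩
    obtain ⟨m, hm⟩ := J.surj (h⁻¹ * ⟨σ, hσ⟩ * h)
    have e : h * J.tau m * h⁻¹ = ⟨σ, hσ⟩ := by rw [hm]; group
    have hmC : (m : G) ∈ C := (hcent m).mpr ((hmap _).mp (by rw [e]; exact hst))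
    refine ⟨⟨m, hmC⟩, Subtype.ext ?_⟩
    show ((h * J.tau m * h⁻¹ : ↥Cfsg.M24) : Perm Cfsg.GolayPt) = σ
    exact congrArg Subtype.val e
  have hker : f.ker = A.subgroupOf C := by
    ext c
    rw [MonoidHom.mem_ker, Subgroup.mem_subgroupOf, show ((c : G) ∈ A) ↔
      Subgroup.inclusion (inf_le_left : C ≤ M) c ∈ A.subgroupOf M from Iff.rfl, ← J.ker, MonoidHom.mem_ker]
    rw [← conj_eq_one_iff (a := h) (b := J.tau _)]
    exact ⟨fun e => Subtype.ext (congrArg Subtype.val e :), fun e => Subtype.ext (congrArg Subtype.val e :)⟩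
  haveI hn : (A.subgroupOf C).Normal := hker ▸ inferInstance
  exact ⟨hn, ⟨(QuotientGroup.quotientMulEquivOfEq hker.symm).trans
    (QuotientGroup.quotientKerEquivOfSurjective f hf)⟩⟩

end JFacts

end CfsgLib.Fi24Q
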