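import Cfsg.Agent.Lib.Fi24J.Types

/-!
The second class corresponds to the duads.
-/

set_option autoImplicit false
set_option linter.unusedSectionVars false

namespace CfsgLib.Fi24Q

open Matrix CfsgLib.G24 CfsgLib.SUSixSub Equiv CfsgLib.Fi24J
open scoped commutatorElement

attribute [local irreducible] T0 planeL aList maskA maskB iMaskL gMaskL iWitL oWitL otherL maskT

/-- The free classes. -/
def freeL : List ℕ := [3, 5, 6, 7, 9, 10, 11, 12, 13, 14, 15]

theorem free_ok : ∀ e < 16, (posL.getD e 11 = 11 ∧ (e = 0 ∨ ∃ k < 4, e = 2 ^ k)) ∨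
    (posL.getD e 11 < 11 ∧ freeL.getD (posL.getD e 11) 0 = e) := by decide

theorem j_codes_ok : (∀ j < 2, (gEL.getD j []).getD 0 0 = 0) ∧ (352 % 16 = 0 ∧ 352 / 16 % 64 = 22) ∧
    (1376 % 16 = 0 ∧ 352 ^^^ 1376 = 1024) := by decide

theorem card_filter_range (N : ℕ) (p : ℕ → Bool) :
    Nat.card {n : ℕ // n < N ∧ p n = true} = (List.range N).countP p := by
  rw [List.countP_eq_length_filter]
  rw [Nat.subtype_card ((Finset.range N).filter fun n => p n = true) fun n => by simp]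
  show ((Multiset.range N).filter fun n => p n = true).card = _
  rw [Multiset.range, Multiset.filter_coe, Multiset.coe_card]
  simp

variable {G : Type*} [Group G] [Finite G] {z : G} {Q : Subgroup (Cz z)} [hQn : Q.Normal]

namespace Data

variable (D : Data z Q) (hR : D.R = Sg) (hset : Cfsg.IsExtraspecialCentralizerSetting z Q 6)

open Classical in
/-- Whether the additive lift is conjugate to the central involution. -/
noncomputable def dlt (e : ℕ) : Bool := decide (Zp (D.Pr hR e))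

/-- The second class. -/
def TG : Set G := {x | x ∈ D.AG ∧ x ≠ 1 ∧ ¬ IsConj z x}

include hset

theorem Zp_Pr {e : ℕ} (he : e < 16) (i : ZMod 2) :
    Zp (D.Pr hR e * D.zp i) ↔ i ≠ zb2 (D.dlt hR e) := by
  classical
  have hsucc : ∀ j, Zp (D.Pr hR e * D.zp (j + 1)) ↔ ¬ Zp (D.Pr hR e * D.zp j) := by
    intro j
    by_cases h0 : e = 0
    · subst h0
      rw [D.Pr_zero, one_mul, one_mul]
      have h := fun j => D.Zp_core hR hset (w := 0) (by norm_num) j
      simp only [D.el_zero hR, vP_zero, D.sL_zero, one_mul] at h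
      rw [h, h]
      rcases zmod2_cases j with rfl | rfl <;> simp [show (1 : ZMod 2) + 1 = 0 from rfl]
    · obtain ⟨s, hs⟩ := D.Pr_el hR he
      have h1 := fun j => hs 0 j
      simp only [vP_zero, D.sL_zero, one_mul] at h1
      rw [h1, h1, add_right_comm]
      exact ((D.class_values hR hset).2 e he h0).2 _
  have hd : D.dlt hR e = decide (Zp (D.Pr hR e * D.zp 0)) := by rw [D.zp_zero, mul_one]; rfl
  rw [hd]
  rcases zmod2_cases i with rfl | rfl <;> by_cases h : Zp (D.Pr hR e * D.zp 0)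
  · simp [h, zb2]
  · simp [h, zb2]
  · have := hsucc 0
    rw [zero_add] at this
    simp [h, this, zb2]
  · have := hsucc 0
    rw [zero_add] at this
    simp [h, this, zb2]

theorem dlt_basis {e : ℕ} (h : e = 0 ∨ ∃ k < 4, e = 2 ^ k) : D.dlt hR e = false := by
  classical
  simp only [dlt, decide_eq_false_iff_not]
  rcases h with rfl | ⟨k, hk, rfl⟩
  · intro h
    have := (D.Zp_Pr hR hset (e := 0) (by norm_num) 0).mp (by rwa [D.zp_zero, mul_one])
    rcases hb : D.dlt hR 0 with _ | _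
    · exact this (by rw [hb]; rfl)
    · rw [D.Pr_zero] at h
      have h2 := D.z2
      rw [(isConj_one_left (a := z)).mp (by simpa [Zp] using h), orderOf_one] at h2
      norm_num at h2
  · have hk' : 2 ^ k < 16 := Nat.pow_lt_pow_right (m := k) (n := 4) (by norm_num) hk
    rw [D.Pr_basis hR hk]
    unfold bL
    split_ifs with h
    · have hs := ((D.class_values hR hset).2 _ hk' (by simp)).2 0
      simp only [el, vP_zero, D.sL_zero, one_mul, zero_add, D.zp_zero, mul_one] at hs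
      exact fun h' => (hs.mp h') h
    · exact h

theorem code_of {m : ℕ} (hm : ∀ e < 16, dB m e = D.dlt hR e) {n : ℕ} (hn : n < 2048) :
    tC m n = true ↔ n ≠ 0 ∧ ¬ Zp (D.Ln hR n) := by
  have he : n % 16 < 16 := Nat.mod_lt _ (by norm_num)
  have hw : n / 16 % 64 < 64 := Nat.mod_lt _ (by norm_num)
  have hb : n.testBit 10 = decide (n / 1024 = 1) := by
    rw [Nat.testBit_eq_decide_div_mod_eq, decide_eq_decide]; omega
  obtain ⟨s, hs⟩ := D.Pr_el hR he
  unfold tC Ln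
  by_cases h0 : n % 16 = 0
  · rw [if_pos h0, h0, D.Pr_zero, one_mul, ← D.el_zero hR, D.Zp_core hR hset hw]
    simp only [Bool.and_eq_true, Bool.not_eq_true']
    by_cases hw0 : n / 16 % 64 = 0
    · simp only [hw0, Nat.beq_refl, Bool.true_eq_false, false_and, ne_eq, not_true_eq_false, or_false, true_and,
        false_iff, not_and, not_not]
      intro hn0
      rw [hb, show n / 1024 = 1 by omega]
      rfl
    · simp only [hw0, false_and, false_or, ne_eq, not_false_eq_true, true_and, Bool.not_eq_false]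
      constructor
      · exact fun h => ⟨fun e => hw0 (by rw [e]), h.2⟩
      · exact fun h => ⟨Bool.eq_false_iff.mpr fun e => hw0 (Nat.eq_of_beq_eq_true e), h.2⟩
  · rw [if_neg h0, hs]
    have hn0 : n ≠ 0 := fun e => h0 (by rw [e])
    simp only [Bool.and_eq_true, beq_iff_eq, ne_eq, hn0, not_false_eq_true, true_and]
    by_cases hI : inI (n % 16) (n / 16 % 64) = true
    · simp only [hI, true_and]
      have h1 := D.Zp_inside hR he hw hI (zb2 (n.testBit 10) + s + zb2 (gI (n % 16) (n / 16 % 64)))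
      rw [add_assoc (_ + s), CharTwo.add_self_eq_zero, add_zero] at h1
      have h2 := hs 0 (zb2 (n.testBit 10) + zb2 (gI (n % 16) (n / 16 % 64)))
      rw [vP_zero, D.sL_zero, one_mul, add_right_comm] at h2
      rw [h1, ← h2, D.Zp_Pr hR hset he, not_not, ← zb2_xor, zb2_inj, hm _ he]
      cases n.testBit 10 <;> cases D.dlt hR (n % 16) <;> cases gI (n % 16) (n / 16 % 64) <;> simp
    · simp only [hI, Bool.false_eq_true, false_and, false_iff, not_not]
      exact (D.Zp_outside hR he h0 hw (by simpa using hI) _).mpr ((D.class_values hR hset).2 _ he h0).1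

theorem dlt_lin {j : ℕ} (hj : j < 2) : ∃ τ : ℕ → ZMod 2, ∀ e < 16, (gEL.getD j []).getD e 0 < 16 ∧
    zb2 (D.dlt hR ((gEL.getD j []).getD e 0)) = zb2 (D.dlt hR e) + τ e ∧
    ∀ f < 16, τ (e ^^^ f) = τ e + τ f := by
  obtain ⟨c, -, hc⟩ := D.exists_gen hR hj
  have hw0 : (gWL.getD j []).getD 0 0 = 0 := (count_ok.2.2.2.1 j hj).1
  have hg := List.all_eq_true.mp gens_ok j (List.mem_range.mpr hj)
  simp only [Bool.and_eq_true] at hg
  have hlt : ∀ e, e < 16 → (gEL.getD j []).getD e 0 < 16 := fun e he => by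
    have h := List.all_eq_true.mp hg.2 e (List.mem_range.mpr he)
    simp only [Bool.and_eq_true, Nat.blt_eq] at h
    exact h.1.1
  have h : ∀ e, ∃ τ, e < 16 → ∀ i, c * (D.Pr hR e * D.zp i) * c⁻¹ =
      D.Pr hR ((gEL.getD j []).getD e 0) * D.zp (i + τ) := by
    intro e
    by_cases he : e < 16
    · obtain ⟨t, ht⟩ := hc e he
      obtain ⟨s, hs⟩ := D.Pr_el hR he
      obtain ⟨s', hs'⟩ := D.Pr_el hR (hlt e he)
      refine ⟨s + t + s', fun _ i => ?_⟩
      have a := hs 0 i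
      have b := hs' 0 (i + (s + t + s'))
      rw [vP_zero, D.sL_zero, one_mul] at a b
      rw [a, b, ht 0 (by norm_num), hw0]
      congr 1
      linear_combination -(CharTwo.add_self_eq_zero s' : _ = (0 : ZMod 2))
    · exact ⟨0, fun h => absurd h he⟩
  choose τ hτ using h
  refine ⟨τ, fun e he => ⟨hlt e he, ?_, fun f hf => ?_⟩⟩
  · have key : ∀ i, i ≠ zb2 (D.dlt hR e) ↔ i + τ e ≠ zb2 (D.dlt hR ((gEL.getD j []).getD e 0)) := fun i => by
      rw [← D.Zp_Pr hR hset he, ← D.Zp_Pr hR hset (hlt e he), ← Zp_conj c (D.Pr hR e * D.zp i), hτ e he]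
    by_contra hne
    exact ((key (zb2 (D.dlt hR e))).mpr (fun h => hne h.symm)) rfl
  · have hef : e ^^^ f < 16 := Nat.xor_lt_two_pow (n := 4) he hf
    have hz := hτ (e ^^^ f) hef 0
    have h1 := hτ e he 0
    have h2 := hτ f hf 0
    simp only [zero_add, D.zp_zero, mul_one] at hz h1 h2
    have h3 : D.Pr hR ((gEL.getD j []).getD (e ^^^ f) 0) * D.zp (τ (e ^^^ f)) =
        D.Pr hR ((gEL.getD j []).getD e 0 ^^^ (gEL.getD j []).getD f 0) * D.zp (τ e + τ f) := by
      rw [← hz, D.Pr_xor hR he hf, D.Pr_xor hR (hlt e he) (hlt f hf), D.zp_add,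
        show c * (D.Pr hR e * D.Pr hR f) * c⁻¹ = (c * D.Pr hR e * c⁻¹) * (c * D.Pr hR f * c⁻¹) by group, h1, h2,
        D.Ae_swap hR (D.Kc_Ae (D.zp_Kc _)) (D.Pr_spec hR (hlt f hf)).1]
    have h4 := congrArg D.th h3
    have hl : (gEL.getD j []).getD e 0 ^^^ (gEL.getD j []).getD f 0 < 16 :=
      Nat.xor_lt_two_pow (n := 4) (hlt e he) (hlt f hf)
    rw [map_mul, map_mul, (D.Pr_spec hR (hlt _ hef)).2.1, (D.Pr_spec hR hl).2.1,
      (D.th_ker _).mpr (D.Kc_le (D.zp_Kc _)), (D.th_ker _).mpr (D.Kc_le (D.zp_Kc _)), mul_one, mul_one] at h4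
    rw [pE_inj (hlt _ hef) hl h4] at h3
    exact D.zp_inj (mul_left_cancel h3)

theorem exists_choice : ∃ m, m < 2048 ∧ linOK m = true ∧ ∀ e < 16, dB m e = D.dlt hR e := by
  let m := Nat.ofBits fun k : Fin 11 => D.dlt hR (freeL.getD k.val 0)
  have hdB : ∀ e < 16, dB m e = D.dlt hR e := by
    intro e he
    unfold dB
    rcases free_ok e he with ⟨hp, hb⟩ | ⟨hp, hf⟩
    · rw [hp, D.dlt_basis hR hset hb, Nat.testBit_ofBits_ge _ _ le_rfl]
    · rw [Nat.testBit_ofBits_lt _ _ hp, hf]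
  refine ⟨m, Nat.ofBits_lt_two_pow _, ?_, hdB⟩
  simp only [linOK, List.all_eq_true, List.mem_range, beq_iff_eq]
  intro j hj e he f hf
  obtain ⟨τ, hτ⟩ := D.dlt_lin hR hset hj
  have hef : e ^^^ f < 16 := Nat.xor_lt_two_pow (n := 4) he hf
  obtain ⟨a1, a2, a3⟩ := hτ e he
  obtain ⟨b1, b2, -⟩ := hτ f hf
  obtain ⟨c1, c2, -⟩ := hτ _ hef
  rw [hdB _ a1, hdB _ b1, hdB _ c1, hdB _ he, hdB _ hf, hdB _ hef, ← zb2_inj]
  simp only [zb2_xor, a2, b2, c2, a3 f hf]
  linear_combination (CharTwo.add_self_eq_zero (zb2 (D.dlt hR (e ^^^ f))) : _ = (0 : ZMod 2)) -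
    (CharTwo.add_self_eq_zero (zb2 (D.dlt hR e)) : _ = (0 : ZMod 2)) -
    (CharTwo.add_self_eq_zero (zb2 (D.dlt hR f)) : _ = (0 : ZMod 2))

omit hset in
theorem Ln_G_inj {n m : ℕ} (hn : n < 2048) (hm : m < 2048) (h : ((D.Ln hR n : Cz z) : G) = D.Ln hR m) : n = m :=
  D.Ln_inj hR hn hm (Subtype.ext h)

include hR

/-- The choice is the one of the duads. -/
theorem choice_eq {m : ℕ} (hlt : m < 2048) (hl : linOK m = true) (hm : ∀ e < 16, dB m e = D.dlt hR e) : m = 2013 := by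
  classical
  have h := List.all_eq_true.mp lin_ok m (List.mem_range.mpr hlt)
  simp only [hl, Bool.not_true, Bool.false_or, Bool.or_eq_true, List.any_eq_true, Nat.beq_eq] at h
  rcases h with h | ⟨p, hp, rfl⟩
  · exact h
  exfalso
  have hmask := List.all_eq_true.mp (List.all_eq_true.mp masks_ok.2 p hp)
  have hs := List.all_eq_true.mp split_ok p hp
  simp only [Bool.and_eq_true, beq_iff_eq, Nat.beq_eq] at hs
  obtain ⟨⟨⟨⟨⟨hL, hb1⟩, hb2⟩, hd1⟩, hd2⟩, hall⟩ := hs
  have hT : ∀ n, n < 2048 → (((D.Ln hR n : Cz z) : G) ∈ D.TG ↔ p.2.1.testBit n = true) := by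
    intro n hn
    rw [← beq_iff_eq.mp (hmask n (List.mem_range.mpr hn)), D.code_of hR hset hm hn]
    constructor
    · exact fun h => ⟨fun e => h.2.1 (by rw [e, D.Ln_zero]; rfl), h.2.2⟩
    · exact fun h => ⟨⟨_, D.Ln_mem hR n, rfl⟩, fun e => h.1 (D.Ln_G_inj hR hn (by norm_num)
        (by rw [e, D.Ln_zero]; rfl)), h.2⟩
  let deg : G → ℕ := fun x => Nat.card {u : G // u ∈ D.TG ∧ x * u ∈ D.TG}
  have hdeg : ∀ n, n < 2048 → deg ((D.Ln hR n : Cz z) : G) = degN p.2.2 p.2.1 n := by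
    intro n hn
    rw [degN, ← hL, List.countP_filter, ← card_filter_range]
    have hF : ∀ u : {u : ℕ // u < 2048 ∧ (p.2.1.testBit (n ^^^ u) && p.2.1.testBit u) = true},
        ((D.Ln hR u.1 : Cz z) : G) ∈ D.TG ∧ (D.Ln hR n : G) * (D.Ln hR u.1 : G) ∈ D.TG := by
      rintro ⟨u, hu, hb⟩
      simp only [Bool.and_eq_true] at hb
      rw [← Subgroup.coe_mul, ← D.Ln_xor hR, hT u hu, hT _ (Nat.xor_lt_two_pow (n := 11) hn hu)]
      exact ⟨hb.2, hb.1⟩
    let F : {u : ℕ // u < 2048 ∧ (p.2.1.testBit (n ^^^ u) && p.2.1.testBit u) = true} →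
        {x : G // x ∈ D.TG ∧ (D.Ln hR n : G) * x ∈ D.TG} := fun u => ⟨_, hF u⟩
    refine (Nat.card_congr (Equiv.ofBijective F ⟨?_, ?_⟩)).symm
    · intro u v e
      exact Subtype.ext (D.Ln_G_inj hR u.2.1 v.2.1 (congrArg Subtype.val e :))
    · rintro ⟨x, ⟨⟨a, ha, rfl⟩, hrest⟩, hx⟩
      obtain ⟨u, hu, rfl⟩ := D.Ln_surj hR ha
      refine ⟨⟨u, hu, ?_⟩, rfl⟩
      rw [Subgroup.coe_subtype] at hx hrest
      rw [← Subgroup.coe_mul, ← D.Ln_xor hR, hT _ (Nat.xor_lt_two_pow (n := 11) hn hu)] at hx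
      simp only [Bool.and_eq_true]
      exact ⟨hx, (hT u hu).mp ⟨⟨_, D.Ln_mem hR u, rfl⟩, hrest⟩⟩
  set M := Subgroup.normalizer (D.AG : Set G) with hM
  have hTinv : ∀ g ∈ M, ∀ x, x ∈ D.TG → g * x * g⁻¹ ∈ D.TG := by
    rintro g hg x ⟨h1, h2, h3⟩
    exact ⟨(Subgroup.mem_normalizer_iff.mp hg x).mp h1, fun e => h2 (conj_eq_one_iff.mp e),
      fun e => h3 (e.trans (IsConj.symm (isConj_iff.mpr ⟨g, rfl⟩)))⟩
  have hTi : ∀ g ∈ M, ∀ x, g * x * g⁻¹ ∈ D.TG ↔ x ∈ D.TG := fun g hg x => ⟨fun h => by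
    simpa [mul_assoc] using hTinv g⁻¹ (inv_mem hg) _ h, hTinv g hg x⟩
  have hdinv : ∀ g ∈ M, ∀ x, deg (g * x * g⁻¹) = deg x := fun g hg x => by
    refine (Nat.card_congr ((MulAut.conj g).toEquiv.subtypeEquiv fun u => ?_)).symm
    show _ ↔ g * u * g⁻¹ ∈ D.TG ∧ g * x * g⁻¹ * (g * u * g⁻¹) ∈ D.TG
    rw [show g * x * g⁻¹ * (g * u * g⁻¹) = g * (x * u) * g⁻¹ by group, hTi g hg, hTi g hg]
  set H := Subgroup.closure {x : G | x ∈ D.TG ∧ deg x = 44} with hH
  have hHK : H ≤ D.Kc.map (Cz z).subtype := by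
    rw [hH, Subgroup.closure_le]
    rintro x ⟨hx, hd⟩
    obtain ⟨a, ha, rfl⟩ := hx.1
    obtain ⟨n, hn, rfl⟩ := D.Ln_surj hR ha
    rw [Subgroup.coe_subtype] at hx hd
    have hb := (hT n hn).mp hx
    rw [hdeg n hn] at hd
    have hmem : n ∈ p.2.2 := by rw [← hL, List.mem_filter, List.mem_range]; exact ⟨hn, hb⟩
    have h1 := List.all_eq_true.mp hall n hmem
    simp only [hd, Bool.or_eq_true, Nat.beq_eq, Bool.not_eq_true'] at h1
    rcases h1 with h1 | h1
    · refine ⟨_, ?_, rfl⟩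
      rw [Ln, h1, D.Pr_zero, one_mul]
      exact mul_mem (D.sL_Kc (vP_mem (Nat.mod_lt _ (by norm_num)))) (D.zp_Kc _)
    · simp at h1
  have hzH : z ∈ H := by
    have h1 : ((D.Ln hR 352 : Cz z) : G) ∈ H :=
      Subgroup.subset_closure ⟨(hT _ (by norm_num)).mpr hb1, (hdeg _ (by norm_num)).trans hd1⟩
    have h2 : ((D.Ln hR 1376 : Cz z) : G) ∈ H :=
      Subgroup.subset_closure ⟨(hT _ (by norm_num)).mpr hb2, (hdeg _ (by norm_num)).trans hd2⟩
    have h3 := mul_mem h1 h2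
    rw [← Subgroup.coe_mul, ← D.Ln_xor hR, j_codes_ok.2.2.2] at h3
    have h4 : D.Ln hR 1024 = D.zz := by
      rw [Ln, show 1024 % 16 = 0 by norm_num, D.Pr_zero, vP_zero, D.sL_zero,
        show Nat.testBit 1024 10 = true by decide, one_mul, one_mul]
      exact D.zp_one
    rwa [h4, D.coe_zq] at h3
  set a := D.el hR 1 (rep 1 0) 0
  have ha : a ∈ D.Ae := D.el_mem hR (by norm_num) (rep_lt (by norm_num) 0) 0
  obtain ⟨g, hg⟩ := isConj_iff.mp (((D.class_values hR hset).2 1 (by norm_num) (by norm_num)).1 : IsConj z (a : G))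
  obtain ⟨n, hn, e⟩ := D.fusion hR D.z_AG (g := g) (hg ▸ ⟨a, ha, rfl⟩)
  have hHinv : H ≤ H.comap (MulAut.conj n).toMonoidHom := by
    rw [hH, Subgroup.closure_le]
    exact fun x hx => Subgroup.subset_closure ⟨(hTi n hn x).mpr hx.1, (hdinv n hn x).trans hx.2⟩
  obtain ⟨b, hb, hbe⟩ := hHK (hHinv hzH)
  have hba : b = a := Subtype.ext (hbe.trans (e.trans hg))
  have h1 : D.th a = 1 := (D.th_ker _).mpr (D.Kc_le (hba ▸ hb))
  rw [D.el_th hR (by norm_num), ← pE_zero] at h1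
  exact absurd (pE_inj (by norm_num) (by norm_num) h1) (by norm_num)

/-- The numbering matches the duads with the second class. -/
theorem Ln_class {n : ℕ} (hn : n < 2048) : isT n = true ↔ n ≠ 0 ∧ ¬ Zp (D.Ln hR n) := by
  obtain ⟨m, hlt, hl, hm⟩ := D.exists_choice hR hset
  obtain rfl := D.choice_eq hR hset hlt hl hm
  rw [← beq_iff_eq.mp (List.all_eq_true.mp masks_ok.1 n (List.mem_range.mpr hn))]
  exact D.code_of hR hset hm hn

end Data

end CfsgLib.Fi24Q
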