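import Cfsg.Agent.Lib.Fi24J.ModelChecks

/-!
Elements of the Sylow subgroup fixing the plane: check.
-/

set_option autoImplicit false
set_option maxRecDepth 30000
set_option maxHeartbeats 4000000

namespace CfsgLib.Fi24J

open CfsgLib.G24 CfsgLib.SUSixSub CfsgLib.Fi24Q

theorem fixT_ok : ((List.range 256).all fun k =>
    (planeB.any fun n => !Nat.beq (img (elS k) n) n) || (List.range 16).any fun e => beqE (elS k) (eE e)) = true := by
  decide +kernel

end CfsgLib.Fi24J
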