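import Cfsg.Agent.Lib.Fi24J.Model
import Cfsg.Agent.Lib.Fi24J.FusionChecks

/-!
The Sylow subgroup, the Thompson subgroup and control of fusion in a group of large Fischer type.
-/

set_option autoImplicit false
set_option linter.unusedSectionVars false
set_option linter.style.haveILetI false

namespace CfsgLib.Fi24Q

open Matrix CfsgLib.G24 CfsgLib.SUSixSub Equiv CfsgLib.Fi24J
open scoped commutatorElement

attribute [local irreducible] T0 planeL aList

variable {G : Type*} [Group G] [Finite G] {z : G} {Q : Subgroup (Cz z)} [hQn : Q.Normal]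

namespace Data

variable (D : Data z Q) (hR : D.R = Sg)

/-- The elementary subgroup in the group. -/
noncomputable def AG : Subgroup G := D.Ae.map (Cz z).subtype

/-- The two-subgroup in the group. -/
noncomputable def PG : Subgroup G := (T0.comap D.th).map (Cz z).subtype

theorem z_AG : z ∈ D.AG :=
  ⟨D.zz, by rw [SetLike.mem_coe, ← D.zp_one]; exact D.Kc_Ae (D.zp_Kc 1), D.coe_zq⟩

theorem mem_AG {g : G} : g ∈ D.AG ↔ ∃ a ∈ D.Ae, (a : G) = g := Iff.rfl

include hR

theorem card_PG : Nat.card D.PG = 2 ^ 21 := by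
  have hinf : (T0.comap D.th) ⊓ Q = Q := inf_eq_right.mpr fun q hq => by
    rw [Subgroup.mem_comap, (D.th_ker q).mpr hq]; exact one_mem _
  have h := D.card_split (T0.comap D.th)
  rw [Subgroup.map_comap_eq_self (D.T0_range hR), card_T0, hinf, D.card_Q] at h
  rw [PG, Subgroup.card_map_of_injective (Cz z).subtype_injective, ← h]
  norm_num

theorem card_Cz : Nat.card (Cz z) = 2 ^ 21 * 76545 := by
  have h := D.card_split ⊤
  rw [← MonoidHom.range_eq_map, D.rng.card, top_inf_eq, D.card_Q, Subgroup.card_top] at h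
  rw [← h]
  norm_num

theorem card_AG : Nat.card D.AG = 2 ^ 11 := by
  rw [AG, Subgroup.card_map_of_injective (Cz z).subtype_injective]
  exact (D.Ae_map hR).2

theorem AG_sq {a : G} (ha : a ∈ D.AG) : a * a = 1 := by
  obtain ⟨b, hb, rfl⟩ := ha
  exact congrArg Subtype.val (D.Ae_sq hR hb)

theorem AG_le_PG : D.AG ≤ D.PG :=
  Subgroup.map_mono fun a ha => show D.th a ∈ T0 from A0f_le ha.1

theorem AG_comm {a b : G} (ha : a ∈ D.AG) (hb : b ∈ D.AG) : a * b = b * a := by
  obtain ⟨a, ha, rfl⟩ := ha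
  obtain ⟨b, hb, rfl⟩ := hb
  exact congrArg Subtype.val (D.Ae_comm hR ha hb)

theorem center_PG {n : G} (hn : n ∈ D.PG) (hc : ∀ p ∈ D.PG, p * n = n * p) : n = 1 ∨ n = z := by
  obtain ⟨c, hcP, rfl⟩ := hn
  have hq : ∀ q : Q, (q : Cz z) * c = c * q := fun q => Subtype.ext (hc _ ⟨q, by
    rw [SetLike.mem_coe, Subgroup.mem_comap, (D.th_ker _).mpr q.2]; exact one_mem _, rfl⟩)
  have hth : D.th c = 1 := Equiv.ext fun v => by
    obtain ⟨q, rfl⟩ := D.pi_surj v
    rw [D.th_pi]
    exact congrArg D.pi (Subtype.ext (show c * (q : Cz z) * c⁻¹ = q by rw [← hq, mul_inv_cancel_right]))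
  have hcQ : c ∈ Q := (D.th_ker c).mp hth
  have hcen : (⟨c, hcQ⟩ : Q) ∈ Subgroup.center ↥Q := Subgroup.mem_center_iff.mpr fun q => Subtype.ext (hq q)
  rcases (D.ext2.center_iff _).mp hcen with e | e
  · exact Or.inl (congrArg (fun a : Q => ((a : Cz z) : G)) e)
  · exact Or.inr ((congrArg (fun a : Q => ((a : Cz z) : G)) e).trans D.coe_zq)

/-- The Sylow subgroup of the group. -/
theorem exists_sylow : ∃ S : Sylow 2 G, (S : Subgroup G) = D.PG := by
  haveI : Fact (Nat.Prime 2) := ⟨Nat.prime_two⟩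
  have hP : IsPGroup 2 D.PG := IsPGroup.of_card (D.card_PG hR)
  obtain ⟨S, hS⟩ := hP.exists_le_sylow
  refine ⟨S, le_antisymm ?_ hS⟩
  by_contra hne
  have hlt : (D.PG.subgroupOf (S : Subgroup G)) < ⊤ := lt_top_iff_ne_top.mpr fun e => hne (Subgroup.subgroupOf_eq_top.mp e)
  haveI : Group.IsNilpotent ↥(S : Subgroup G) := S.2.isNilpotent
  obtain ⟨n, hn, hn'⟩ := SetLike.exists_of_lt (normalizerCondition_of_isNilpotent _ hlt)
  have hnz : (n : G) * z = z * n := by
    have hzP : z ∈ D.PG := D.AG_le_PG hR (D.z_AG)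
    have hzc : ∀ p ∈ D.PG, p * z = z * p := by
      rintro _ ⟨c, -, rfl⟩
      exact Subgroup.mem_centralizer_singleton_iff.mp c.2
    have hnor : ∀ p, p ∈ D.PG ↔ (n : G) * p * (n : G)⁻¹ ∈ D.PG := by
      intro p
      have h : ∀ y : ↥(S : Subgroup G), y ∈ D.PG.subgroupOf (S : Subgroup G) →
          n * y * n⁻¹ ∈ D.PG.subgroupOf (S : Subgroup G) := fun y hy => (Subgroup.mem_normalizer_iff.mp hn y).mp hy
      have h' : ∀ y : ↥(S : Subgroup G), y ∈ D.PG.subgroupOf (S : Subgroup G) →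
          n⁻¹ * y * n ∈ D.PG.subgroupOf (S : Subgroup G) := fun y hy => by
        refine (Subgroup.mem_normalizer_iff.mp hn _).mpr ?_
        simpa [mul_assoc] using hy
      refine ⟨fun hp => h ⟨p, hS hp⟩ hp, fun hp => ?_⟩
      have := h' ⟨_, hS hp⟩ hp
      rw [Subgroup.mem_subgroupOf] at this
      simpa [mul_assoc] using this
    rcases D.center_PG hR ((hnor z).mp hzP) (fun p hp => by
      have h1 : (n : G)⁻¹ * p * n ∈ D.PG := (hnor _).mpr (by
        rw [show (n : G) * ((n : G)⁻¹ * p * n) * (n : G)⁻¹ = p by group]; exact hp)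
      calc p * ((n : G) * z * (n : G)⁻¹) = (n : G) * (((n : G)⁻¹ * p * n) * z) * (n : G)⁻¹ := by group
        _ = (n : G) * (z * ((n : G)⁻¹ * p * n)) * (n : G)⁻¹ := by rw [hzc _ h1]
        _ = _ := by group) with e | e
    · exfalso
      have h2 := D.z2
      rw [show z = 1 from conj_eq_one_iff.mp e, orderOf_one] at h2
      norm_num at h2
    · exact mul_inv_eq_iff_eq_mul.mp e
  set U : Subgroup G := (S : Subgroup G) ⊓ Cz z with hU
  have hPU : D.PG ≤ U := le_inf hS (Subgroup.map_subtype_le _)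
  obtain ⟨k, hk⟩ := IsPGroup.iff_card.mp (S.2.to_le (inf_le_left : U ≤ (S : Subgroup G)))
  have hdvd : Nat.card U ∣ 2 ^ 21 * 76545 := D.card_Cz hR ▸ Subgroup.card_dvd_of_le inf_le_right
  have hk21 : k ≤ 21 := pow_le_exp (m := 76545) (by decide) (hk ▸ hdvd)
  have hle : Nat.card U ≤ Nat.card D.PG := by
    rw [hk, D.card_PG hR]; exact Nat.pow_le_pow_right (by norm_num) hk21
  have hmem : (n : G) ∈ U := ⟨n.2, Subgroup.mem_centralizer_singleton_iff.mpr hnz⟩
  rw [← Subgroup.eq_of_le_of_card_ge hPU hle] at hmem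
  exact hn' hmem

theorem max_PG {B : Subgroup G} (hB : B ≤ D.PG) (h2 : ∀ b ∈ B, b * b = 1) :
    Nat.card B ≤ 2 ^ 11 ∧ (2 ^ 11 ≤ Nat.card B → B = D.AG) := by
  have hBC : B ≤ Cz z := hB.trans (Subgroup.map_subtype_le _)
  obtain ⟨h1, h3⟩ := D.max_elementary hR (B := B.subgroupOf (Cz z))
    (fun b hb => by
      obtain ⟨c, hc, e⟩ := hB hb
      exact Subtype.ext (show (c : G) = b from e) ▸ hc) (fun b hb => Subtype.ext (h2 _ hb))
  rw [Nat.card_congr (Subgroup.subgroupOfEquivOfLe hBC).toEquiv] at h1 h3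
  refine ⟨h1, fun h => ?_⟩
  rw [AG, ← h3 h, Subgroup.subgroupOf_map_subtype, inf_eq_left.mpr hBC]

theorem sylow_conj (S : Sylow 2 G) : ∃ g : G, (S : Subgroup G) = D.PG.map (MulAut.conj g).toMonoidHom := by
  haveI : Fact (Nat.Prime 2) := ⟨Nat.prime_two⟩
  obtain ⟨S0, hS0⟩ := D.exists_sylow hR
  obtain ⟨g, hg⟩ := MulAction.exists_smul_eq G S0 S
  refine ⟨g, ?_⟩
  have h1 := congrArg (fun S : Sylow 2 G => (S : Subgroup G)) hg
  rw [← hS0]
  exact h1.symm

theorem max_sylow (S : Sylow 2 G) : ∃ g : G, (S : Subgroup G) = D.PG.map (MulAut.conj g).toMonoidHom ∧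
    ∀ B : Subgroup G, B ≤ (S : Subgroup G) → (∀ b ∈ B, b * b = 1) →
      Nat.card B ≤ 2 ^ 11 ∧ (2 ^ 11 ≤ Nat.card B → B = D.AG.map (MulAut.conj g).toMonoidHom) := by
  obtain ⟨g, hg⟩ := D.sylow_conj hR S
  refine ⟨g, hg, fun B hB h2 => ?_⟩
  have hback : (B.map (MulAut.conj g⁻¹).toMonoidHom) ≤ D.PG := by
    rintro _ ⟨b, hb, rfl⟩
    obtain ⟨p, hp, rfl⟩ : b ∈ D.PG.map (MulAut.conj g).toMonoidHom := hg ▸ hB hb
    simpa [mul_assoc] using hp
  obtain ⟨h1, h3⟩ := D.max_PG hR hback (by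
    rintro _ ⟨b, hb, rfl⟩
    rw [← map_mul, h2 b hb, map_one])
  rw [Subgroup.card_map_of_injective (MulAut.conj g⁻¹).injective] at h1 h3
  refine ⟨h1, fun h => ?_⟩
  rw [← h3 h, Subgroup.map_map]
  ext b
  simp [mul_assoc]

/-- The Thompson subgroup of a Sylow subgroup. -/
theorem thompson_eq (S : Sylow 2 G) : ∃ g : G,
    Cfsg.thompsonSubgroupOf 2 (S : Subgroup G) = D.AG.map (MulAut.conj g).toMonoidHom := by
  obtain ⟨g, hg, hmax⟩ := D.max_sylow hR S
  refine ⟨g, ?_⟩
  set A' : Subgroup G := D.AG.map (MulAut.conj g).toMonoidHom with hA'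
  have hle : A' ≤ (S : Subgroup G) := hg ▸ Subgroup.map_mono (D.AG_le_PG hR)
  have hsq : ∀ a ∈ A', a * a = 1 := by
    rintro _ ⟨a, ha, rfl⟩
    rw [← map_mul, D.AG_sq hR ha, map_one]
  have hcard : Nat.card A' = 2 ^ 11 := by
    rw [hA', Subgroup.card_map_of_injective (MulAut.conj g).injective, D.card_AG hR]
  have hel : Cfsg.IsElementaryAbelian 2 (A'.subgroupOf (S : Subgroup G)) := by
    refine ⟨⟨⟨fun a b => ?_⟩⟩, fun a ha => Subtype.ext (by rw [Subgroup.coe_pow, pow_two]; exact hsq _ ha)⟩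
    obtain ⟨x, hx, ex⟩ := a.2
    obtain ⟨y, hy, ey⟩ := b.2
    refine Subtype.ext (Subtype.ext ?_)
    show ((a : ↥(S : Subgroup G)) : G) * (b : ↥(S : Subgroup G)) = (b : ↥(S : Subgroup G)) * (a : ↥(S : Subgroup G))
    rw [show ((a : ↥(S : Subgroup G)) : G) = MulAut.conj g x from ex.symm,
      show ((b : ↥(S : Subgroup G)) : G) = MulAut.conj g y from ey.symm, ← map_mul, ← map_mul, D.AG_comm hR hx hy]
  have hmaxset : Cfsg.maxElementaryAbelianSubgroups 2 ↥(S : Subgroup G) = {A'.subgroupOf (S : Subgroup G)} := by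
    have key : ∀ B : Subgroup ↥(S : Subgroup G), Cfsg.IsElementaryAbelian 2 B →
        Nat.card B ≤ 2 ^ 11 ∧ (2 ^ 11 ≤ Nat.card B → B = A'.subgroupOf (S : Subgroup G)) := by
      intro B hB
      obtain ⟨h1, h3⟩ := hmax (B.map (S : Subgroup G).subtype) (Subgroup.map_subtype_le B) (by
        rintro _ ⟨b, hb, rfl⟩
        rw [← map_mul, ← pow_two, hB.2 b hb, map_one])
      rw [Subgroup.card_map_of_injective (S : Subgroup G).subtype_injective] at h1 h3
      refine ⟨h1, fun h => Subgroup.map_injective (S : Subgroup G).subtype_injective ?_⟩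
      rw [Subgroup.subgroupOf_map_subtype, inf_eq_left.mpr hle, h3 h]
    have hc : Nat.card (A'.subgroupOf (S : Subgroup G)) = 2 ^ 11 := by
      rw [Nat.card_congr (Subgroup.subgroupOfEquivOfLe hle).toEquiv, hcard]
    ext B
    constructor
    · rintro ⟨hB, hBmax⟩
      exact (key B hB).2 (hc ▸ hBmax _ hel)
    · rintro rfl
      exact ⟨hel, fun B hB => hc.symm ▸ (key B hB).1⟩
  rw [Cfsg.thompsonSubgroupOf, Cfsg.thompsonSubgroup, hmaxset, sSup_singleton, Subgroup.subgroupOf_map_subtype,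
    inf_eq_left.mpr hle]

/-- The normaliser controls fusion. -/
theorem fusion {a : G} (ha : a ∈ D.AG) {g : G} (hga : g * a * g⁻¹ ∈ D.AG) :
    ∃ m ∈ Subgroup.normalizer (D.AG : Set G), m * a * m⁻¹ = g * a * g⁻¹ := by
  haveI : Fact (Nat.Prime 2) := ⟨Nat.prime_two⟩
  set b := g * a * g⁻¹ with hb
  set Cb := Subgroup.centralizer ({b} : Set G)
  set B := D.AG.map (MulAut.conj g).toMonoidHom with hB
  have hAC : D.AG ≤ Cb := fun x hx => Subgroup.mem_centralizer_singleton_iff.mpr (D.AG_comm hR hx hga)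
  have hBC : B ≤ Cb := by
    rintro _ ⟨x, hx, rfl⟩
    refine Subgroup.mem_centralizer_singleton_iff.mpr ?_
    show (MulAut.conj g) x * b = b * (MulAut.conj g) x
    rw [show b = (MulAut.conj g) a from rfl, ← map_mul, ← map_mul, D.AG_comm hR hx ha]
  have hpA : IsPGroup 2 D.AG := IsPGroup.of_card (D.card_AG hR)
  obtain ⟨S1, hS1⟩ := (hpA.comap_of_injective Cb.subtype Cb.subtype_injective).exists_le_sylow
  obtain ⟨S2, hS2⟩ := ((hpA.map (MulAut.conj g).toMonoidHom).comap_of_injective Cb.subtype Cb.subtype_injective).exists_le_sylow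
  obtain ⟨c, hc⟩ := MulAction.exists_smul_eq Cb S2 S1
  obtain ⟨S, hS⟩ := (S1.2.map Cb.subtype).exists_le_sylow
  set B' := B.map (MulAut.conj (c : G)).toMonoidHom with hB'
  have hA' : D.AG ≤ (S : Subgroup G) := fun x hx => hS ⟨⟨x, hAC hx⟩, hS1 hx, rfl⟩
  have hB'S : B' ≤ (S : Subgroup G) := by
    rintro _ ⟨y, hy, rfl⟩
    have h1 : c * ⟨y, hBC hy⟩ * c⁻¹ ∈ (S1 : Subgroup Cb) := by
      rw [← hc]
      exact ⟨⟨y, hBC hy⟩, hS2 hy, rfl⟩
    exact hS ⟨_, h1, rfl⟩
  obtain ⟨k, -, hmax⟩ := D.max_sylow hR S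
  have hB'sq : ∀ y ∈ B', y * y = 1 := by
    rintro _ ⟨_, ⟨x, hx, rfl⟩, rfl⟩
    rw [← map_mul, ← map_mul, D.AG_sq hR hx, map_one, map_one]
  have hcB' : Nat.card B' = 2 ^ 11 := by
    rw [hB', Subgroup.card_map_of_injective (MulAut.conj (c : G)).injective, hB,
      Subgroup.card_map_of_injective (MulAut.conj g).injective, D.card_AG hR]
  have e1 := (hmax _ hA' fun x hx => D.AG_sq hR hx).2 (D.card_AG hR).ge
  have e2 := (hmax _ hB'S hB'sq).2 hcB'.ge
  have hcb : (c : G) * b = b * c := Subgroup.mem_centralizer_singleton_iff.mp c.2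
  refine ⟨(c : G) * g, ?_, ?_⟩
  · have heq : D.AG.map (MulAut.conj ((c : G) * g)).toMonoidHom = D.AG := by
      calc D.AG.map (MulAut.conj ((c : G) * g)).toMonoidHom = B' := by
            rw [hB', hB, Subgroup.map_map]
            congr 1
            exact MonoidHom.ext fun x => by simp [mul_assoc]
        _ = D.AG := e2.trans e1.symm
    rw [Subgroup.mem_normalizer_iff]
    intro x
    constructor
    · intro hx
      rw [← heq]; exact ⟨x, hx, rfl⟩
    · intro hx
      rw [← heq] at hx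
      obtain ⟨y, hy, e⟩ := hx
      have : y = x := (MulAut.conj ((c : G) * g)).injective e
      exact this ▸ hy
  · calc (c : G) * g * a * ((c : G) * g)⁻¹ = (c : G) * b * (c : G)⁻¹ := by rw [hb]; group
      _ = b := by rw [hcb, mul_inv_cancel_right]

omit hR in
theorem mem_norm_of_Cz {c : Cz z} (h : ∀ a ∈ D.Ae, c * a * c⁻¹ ∈ D.Ae) :
    (c : G) ∈ Subgroup.normalizer (D.AG : Set G) := by
  classical
  rw [Subgroup.mem_normalizer_iff]
  have hmap : D.Ae.map (MulAut.conj c).toMonoidHom = D.Ae := Subgroup.eq_of_le_of_card_ge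
    (by rintro _ ⟨a, ha, rfl⟩; exact h a ha) (Subgroup.card_map_of_injective (MulAut.conj c).injective).ge
  intro x
  constructor
  · rintro ⟨a, ha, rfl⟩
    exact ⟨c * a * c⁻¹, h a ha, rfl⟩
  · rintro ⟨b, hb, e⟩
    obtain ⟨a, ha, rfl⟩ : b ∈ D.Ae.map (MulAut.conj c).toMonoidHom := hmap.symm ▸ hb
    refine ⟨a, ha, ?_⟩
    have e' : (c : G) * (a : G) * (c : G)⁻¹ = (c : G) * x * (c : G)⁻¹ := e
    exact mul_left_cancel (mul_right_cancel e')

theorem PG_le_norm : D.PG ≤ Subgroup.normalizer (D.AG : Set G) := by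
  rintro _ ⟨c, hc, rfl⟩
  refine D.mem_norm_of_Cz fun a ha => ?_
  have hle : D.Ae ≤ T0.comap D.th := fun b hb => show D.th b ∈ T0 from A0f_le hb.1
  have h := (D.max_elementary hR (B := D.Ae.map (MulAut.conj c).toMonoidHom) (by
    rintro _ ⟨b, hb, rfl⟩
    exact mul_mem (mul_mem hc (hle hb)) (inv_mem hc)) (by
    rintro _ ⟨b, hb, rfl⟩
    rw [← map_mul, D.Ae_sq hR hb, map_one])).2 (by
      rw [Subgroup.card_map_of_injective (MulAut.conj c).injective, (D.Ae_map hR).2])
  rw [← h]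
  exact ⟨a, ha, rfl⟩

/-- The elementary subgroup is its own centralizer. -/
theorem centralizer_AG : Subgroup.centralizer (D.AG : Set G) = D.AG := by
  classical
  haveI : Fact (Nat.Prime 2) := ⟨Nat.prime_two⟩
  refine le_antisymm (fun n hn => ?_) fun a ha =>
    Subgroup.mem_centralizer_iff.mpr fun b hb => D.AG_comm hR hb ha
  set C := Subgroup.centralizer (D.AG : Set G)
  have hCz : C ≤ Cz z := fun c hc => Subgroup.mem_centralizer_singleton_iff.mpr
    ((Subgroup.mem_centralizer_iff.mp hc z D.z_AG).symm)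
  have hfix : ∀ c : Cz z, (c : G) ∈ C → ∀ v ∈ Uset, D.th c v = v := by
    intro c hc v hv
    obtain ⟨q, rfl⟩ := D.pi_surj v
    rw [D.th_pi]
    refine congrArg D.pi (Subtype.ext ?_)
    have h1 := Subgroup.mem_centralizer_iff.mp hc _ ⟨(q : Cz z), D.Kc_Ae (D.mem_Kc.mpr hv), rfl⟩
    show c * (q : Cz z) * c⁻¹ = q
    rw [mul_inv_eq_iff_eq_mul]
    exact (Subtype.ext h1).symm
  have h2 : IsPGroup 2 C := by
    intro c
    have hth : D.th ⟨c, hCz c.2⟩ * D.th ⟨c, hCz c.2⟩ = 1 := by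
      set p := D.th ⟨c, hCz c.2⟩ with hp
      have hW : ∀ v ∈ Uset, p v = v := hfix _ c.2
      have hiso : IsIso p := by
        rcases D.kind ⟨c, hCz c.2⟩ with h | h
        · exact h
        · exfalso
          obtain ⟨w, hw, hw0⟩ : ∃ w, w < 64 ∧ vP w ≠ 0 := ⟨1, by norm_num, fun e => by
            have := vP_inj (by norm_num : 1 < 64) (by norm_num : 0 < 64) (e.trans vP_zero.symm); omega⟩
          have e := h.smul K.w (vP w)
          rw [← hp, hW _ (Uset_smul _ (vP_mem hw)), hW _ (vP_mem hw)] at e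
          exact hw0 (funext fun i => (show ∀ t : K, K.w * t = cjK K.w * t → t = 0 by decide) _ (congrFun e i))
      have hperp : ∀ u, p u + u ∈ Uset := by
        intro u
        obtain ⟨q, hq⟩ := D.pi_surj (p u + u)
        by_contra hnot
        have hB : ∀ w < 64, beta (p u + u) (vP w) = 0 := fun w hw => by
          have h1 : hV (p u + u) (vP w) = 0 := by
            rw [hV_addL]
            nth_rewrite 1 [← hW _ (vP_mem hw)]
            rw [hiso.form]
            exact (show ∀ t : K, t + t = 0 by decide) _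
          rw [beta, h1, ← hV_swap (p u + u) (vP w), h1]
          rfl
        have hqc : ∀ k ∈ D.Kc, (q : Cz z) * k * (q : Cz z)⁻¹ = k := by
          intro k hk
          obtain ⟨v, hv, i, rfl⟩ := D.Kc_decomp hk
          obtain ⟨w, hw, rfl⟩ := vP_surj hv
          calc (q : Cz z) * (D.sL (vP w) * D.zp i) * (q : Cz z)⁻¹
              = (q : Cz z) * D.sL (vP w) * (D.zp i * (q : Cz z)⁻¹) := by group
            _ = ((q : Cz z) * D.sL (vP w) * (q : Cz z)⁻¹) * D.zp i := by rw [← D.zp_comm]; group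
            _ = _ := by rw [D.sL_conj, hq, hB w hw, D.zp_zero, mul_one]
        have hKA : D.Kc.subgroupOf Q ⊔ Subgroup.zpowers q = D.Kc.subgroupOf Q := by
          have hsq : (q : Cz z) * q = D.zp (qf (p u + u)) := by rw [D.sq_eq, hq]
          have hel : ∀ a ∈ D.Kc.subgroupOf Q ⊔ Subgroup.zpowers q, ∀ b ∈ D.Kc.subgroupOf Q, a * b = b * a := by
            intro a ha b hb
            have : D.Kc.subgroupOf Q ⊔ Subgroup.zpowers q ≤ Subgroup.centralizer ({b} : Set Q) := by
              refine sup_le (fun a ha => Subgroup.mem_centralizer_singleton_iff.mpr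
                (Subtype.ext (D.Kc_comm ha hb))) (Subgroup.zpowers_le.mpr ?_)
              exact Subgroup.mem_centralizer_singleton_iff.mpr (Subtype.ext (mul_inv_eq_iff_eq_mul.mp (hqc _ hb)))
            exact Subgroup.mem_centralizer_singleton_iff.mp (this ha)
          by_contra hne
          have hK : Nat.card (D.Kc.subgroupOf Q) = 128 := by
            rw [Nat.card_congr (Subgroup.subgroupOfEquivOfLe D.Kc_le).toEquiv, D.card_Kc]
          have hzK : (D.zq : Q) ∈ D.Kc.subgroupOf Q := by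
            have := D.zp_Kc 1; rwa [D.zp_one] at this
          have h1 := D.ext2.card_mul_card_centralizer (A := D.Kc.subgroupOf Q) hzK
          have h3 : Nat.card ↥(D.Kc.subgroupOf Q ⊔ Subgroup.zpowers q) ≤
              Nat.card (Subgroup.centralizer ((D.Kc.subgroupOf Q : Subgroup Q) : Set Q)) :=
            Subgroup.card_le_of_le fun a ha => Subgroup.mem_centralizer_iff.mpr fun b hb => (hel a ha b hb).symm
          have h4 : 128 < Nat.card ↥(D.Kc.subgroupOf Q ⊔ Subgroup.zpowers q) := by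
            by_contra h5
            exact hne (Subgroup.eq_of_le_of_card_ge le_sup_left (by omega)).symm
          rw [hK, D.card_Q] at h1
          omega
        exact hnot (hq ▸ D.mem_Kc.mp (hKA ▸ Subgroup.mem_sup_right (Subgroup.mem_zpowers q) : q ∈ D.Kc.subgroupOf Q))
      refine Equiv.ext fun u => ?_
      rw [Perm.mul_apply, Perm.one_apply, show p u = (p u + u) + u by rw [add_assoc, V_self, add_zero], hiso.add,
        hW _ (hperp u)]
      rw [show p u + u + (p u) = u + (p u + p u) by abel, V_self, add_zero]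
    refine ⟨3, Subtype.ext ?_⟩
    have hQc : (⟨c, hCz c.2⟩ : Cz z) * ⟨c, hCz c.2⟩ ∈ Q := (D.th_ker _).mp (by rw [map_mul, hth])
    have h4 := congrArg (fun a : Q => ((a : Cz z) : G)) (D.ext2.pow_four ⟨_, hQc⟩)
    simp only [Subgroup.coe_pow, Subgroup.coe_mul, Subgroup.coe_one] at h4
    rw [Subgroup.coe_pow, show (2 : ℕ) ^ 3 = 2 * 4 by norm_num, pow_mul, pow_two]
    exact h4
  have hnor : D.PG ≤ Subgroup.normalizer (C : Set G) := fun m hm => by
    have hm' := Subgroup.mem_normalizer_iff.mp (D.PG_le_norm hR hm)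
    refine Subgroup.mem_normalizer_iff.mpr fun c => ?_
    constructor
    · intro hc
      refine Subgroup.mem_centralizer_iff.mpr fun a ha => ?_
      have ha' : m⁻¹ * a * m ∈ D.AG := (hm' _).mpr (by simpa [mul_assoc] using ha)
      have := Subgroup.mem_centralizer_iff.mp hc _ ha'
      calc a * (m * c * m⁻¹) = m * ((m⁻¹ * a * m) * c) * m⁻¹ := by group
        _ = m * (c * (m⁻¹ * a * m)) * m⁻¹ := by rw [this]
        _ = _ := by group
    · intro hc
      refine Subgroup.mem_centralizer_iff.mpr fun a ha => ?_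
      have := Subgroup.mem_centralizer_iff.mp hc _ ((hm' a).mp ha)
      calc a * c = m⁻¹ * ((m * a * m⁻¹) * (m * c * m⁻¹)) * m := by group
        _ = m⁻¹ * ((m * c * m⁻¹) * (m * a * m⁻¹)) * m := by rw [this]
        _ = c * a := by group
  obtain ⟨S0, hS0⟩ := D.exists_sylow hR
  have hPG : IsPGroup 2 D.PG := hS0 ▸ S0.2
  have hsup : IsPGroup 2 ↥(D.PG ⊔ C) := hPG.to_sup_of_normal_right' h2 hnor
  have hle : D.PG ⊔ C = D.PG := by
    have := S0.3 hsup (hS0 ▸ le_sup_left)
    rwa [hS0] at this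
  have hnP : n ∈ D.PG := hle ▸ Subgroup.mem_sup_right hn
  obtain ⟨c, hc, rfl⟩ := hnP
  obtain ⟨k, hk, hke⟩ := mem_T0.mp (hc : D.th c ∈ T0)
  have hA : D.th c ∈ A0f := by
    have h := List.all_eq_true.mp fixT_ok k (List.mem_range.mpr hk)
    simp only [Bool.or_eq_true] at h
    rcases h with h | h
    · exfalso
      obtain ⟨m, hm, hm'⟩ := List.any_eq_true.mp h
      have e := hfix c hn (vecN m) (planeB_mem m hm)
      rw [hke.apply_vecN] at e
      have hlt : m < 4096 := (show ∀ m ∈ planeB, m < 4096 by decide) m hm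
      rw [vecN_inj (by rw [img]; exact cdV_lt _) hlt e] at hm'
      simp at hm'
    · obtain ⟨e, he, hee⟩ := List.any_eq_true.mp h
      rw [hke.eq (pE_isE (List.mem_range.mp he)) hee]
      exact pE_mem (List.mem_range.mp he)
  refine ⟨c, ⟨hA, Subgroup.mem_centralizer_iff.mpr fun d hd => ?_⟩, rfl⟩
  obtain ⟨i, hi, rfl⟩ := hd
  exact Subtype.ext (Subgroup.mem_centralizer_iff.mp hn _ ⟨_, D.Kc_Ae (D.mem_Kc.mpr (D.bQ_mem hi)), rfl⟩)

end Data

end CfsgLib.Fi24Q
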