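import Cfsg.Agent.Lib.Fi24J.Delta
import Cfsg.Agent.Lib.Fi24J.Todd
import Cfsg.Agent.Lib.Golay.Trans
import Cfsg.Agent.Lib.Golay.Subgroups

/-!
The normalizer of the largest elementary subgroup acts as M24 on the duads.
-/

set_option autoImplicit false
set_option linter.unusedSectionVars false

namespace CfsgLib.Fi24J

open Cfsg CfsgGolay

attribute [local irreducible] maskT pairN

/-- The number of a vector. -/
def numV (v : V11) : ℕ := Nat.ofBits fun i => decide (v i = 1)

theorem numV_lt (v : V11) : numV v < 2048 := Nat.ofBits_lt_two_pow _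

theorem vec_numV (v : V11) : vec (numV v) = v := by
  funext i
  rw [vec, numV, Nat.testBit_ofBits_lt _ _ i.2]
  rcases (show ∀ a : ZMod 2, a = 0 ∨ a = 1 by decide) (v i) with h | h <;> simp [h]

theorem numV_vec {n : ℕ} (hn : n < 2048) : numV (vec n) = n := vec_inj (numV_lt _) hn (vec_numV _)

theorem numV_add (u v : V11) : numV (u + v) = numV u ^^^ numV v :=
  vec_inj (numV_lt _) (Nat.xor_lt_two_pow (n := 11) (numV_lt u) (numV_lt v))
    (by rw [vec_xor, vec_numV, vec_numV, vec_numV])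

theorem numV_eq_zero {v : V11} : numV v = 0 ↔ v = 0 := by
  have h0 : vec 0 = (0 : V11) := by funext i; simp [vec]
  constructor
  · intro h; rw [← vec_numV v, h, h0]
  · rintro rfl; rw [← h0, numV_vec (by norm_num)]

theorem isDuad_iff (v : V11) : IsDuad v ↔ isT (numV v) = true := by
  constructor
  · rintro ⟨p, q, hpq, rfl⟩
    rw [vp_add, numV_vec (Nat.xor_lt_two_pow (n := 11) (val_lt _ (idx_lt p)) (val_lt _ (idx_lt q)))]
    exact (duad_code hpq).1
  · intro h
    have h1 := List.all_eq_true.mp pair_ok.1 (numV v) (List.mem_range.mpr (numV_lt v))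
    simp only [h, Bool.not_true, Bool.false_or, Bool.and_eq_true, Nat.blt_eq, Nat.beq_eq, Bool.not_eq_true'] at h1
    obtain ⟨⟨⟨ha, hb⟩, hne⟩, hv⟩ := h1
    refine ⟨pt (pairAt (numV v) / 24), pt (pairAt (numV v) % 24), fun e => ?_, ?_⟩
    · have := congrArg idx e
      rw [idx_pt ha, idx_pt hb] at this
      rw [this] at hne
      simp at hne
    · rw [vp_add, idx_pt ha, idx_pt hb, hv, vec_numV]

/-- The duads form one orbit. -/
theorem duad_transitive {p q r s : GolayPt} (h : p ≠ q) (h' : r ≠ s) :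
    ∃ g : ↥M24, (g : Equiv.Perm GolayPt) p = r ∧ (g : Equiv.Perm GolayPt) q = s :=
  MulAction.is_two_pretransitive_iff.mp (CfsgGolay.multiply_transitive (k := 2) (by norm_num)) h h'

/-- Subgroups of index dividing nine. -/
theorem eq_top_of_dvd (R : Subgroup ↥M24) (h : 27202560 ∣ Nat.card R) : R = ⊤ := by
  haveI : IsSimpleGroup ↥M24 := CfsgGolay.isSimple_M24
  obtain ⟨k, hk⟩ := h
  have hc := R.card_mul_index
  rw [CfsgGolay.card_M24, hk, mul_assoc] at hc
  have h9 : R.index ∣ 9 := Dvd.intro_left k (by omega)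
  by_contra hR
  have hne : R.normalCore ≠ ⊤ := fun e => hR (top_le_iff.mp (e ▸ R.normalCore_le))
  have hinj : Function.Injective (MulAction.toPermHom ↥M24 (↥M24 ⧸ R)) := by
    rw [← MonoidHom.ker_eq_bot_iff, ← Subgroup.normalCore_eq_ker]
    exact (R.normalCore_normal.eq_bot_or_eq_top).resolve_right hne
  have hd := Subgroup.card_dvd_of_injective _ hinj
  rw [Nat.card_perm, CfsgGolay.card_M24, ← Subgroup.index] at hd
  have key : ∀ d, d ∣ 9 → 244823040 ∣ d.factorial → False := by
    intro d hd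
    have := Nat.le_of_dvd (by norm_num) hd
    interval_cases d <;> revert hd <;> decide +kernel
  exact key _ h9 hd

end CfsgLib.Fi24J

namespace CfsgLib.Fi24Q

open Matrix CfsgLib.G24 CfsgLib.SUSixSub Equiv CfsgLib.Fi24J
open scoped commutatorElement

attribute [local irreducible] T0 planeL aList maskA maskB iMaskL gMaskL iWitL oWitL otherL maskT

variable {G : Type*} [Group G] [Finite G] {z : G} {Q : Subgroup (Cz z)} [hQn : Q.Normal]

namespace Data

variable (D : Data z Q) (hR : D.R = Sg)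

/-- The coordinates of the elementary subgroup. -/
noncomputable def LV (v : V11) : G := ((D.Ln hR (numV v) : Cz z) : G)

theorem LV_add (u v : V11) : D.LV hR (u + v) = D.LV hR u * D.LV hR v := by
  rw [LV, numV_add, D.Ln_xor hR]; rfl

theorem LV_zero : D.LV hR 0 = 1 := by
  rw [LV, numV_eq_zero.mpr rfl, D.Ln_zero]; rfl

theorem LV_inj : Function.Injective (D.LV hR) := fun u v h => by
  rw [← vec_numV u, D.Ln_G_inj hR (numV_lt u) (numV_lt v) h, vec_numV]

include hR

theorem mem_AG_iff {g : G} : g ∈ D.AG ↔ ∃ v, D.LV hR v = g := by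
  constructor
  · rintro ⟨a, ha, rfl⟩
    obtain ⟨n, hn, rfl⟩ := D.Ln_surj hR ha
    exact ⟨vec n, by rw [LV, numV_vec hn]; rfl⟩
  · rintro ⟨v, rfl⟩
    exact ⟨_, D.Ln_mem hR _, rfl⟩

variable (hset : Cfsg.IsExtraspecialCentralizerSetting z Q 6)

include hset

theorem LV_class (v : V11) : IsDuad v ↔ v ≠ 0 ∧ ¬ IsConj z (D.LV hR v) := by
  rw [isDuad_iff, D.Ln_class hR hset (numV_lt v), ne_eq, numV_eq_zero]
  rfl

/-- Fifteen divides the order of the centralizer in the normalizer. -/
theorem fifteen_dvd : 15 ∣ Nat.card ↥(Subgroup.normalizer (D.AG : Set G) ⊓ Cz z) := by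
  classical
  set N : Subgroup (Cz z) := (Subgroup.normalizer (D.AG : Set G)).comap (Cz z).subtype with hN
  have hcard : Nat.card ↥(Subgroup.normalizer (D.AG : Set G) ⊓ Cz z) = Nat.card N := by
    rw [← Subgroup.card_map_of_injective (f := (Cz z).subtype) (Cz z).subtype_injective, hN, Subgroup.map_comap_eq,
      Subgroup.range_subtype, inf_comm]
  rw [hcard]
  letI act : MulAction ↥N (Perm V) := MulAction.compHom _ ((MulAut.conj (G := Perm V)).comp (D.th.comp N.subtype))
  have hsm : ∀ (c : ↥N) (p : Perm V), c • p = D.th c * p * (D.th c)⁻¹ := fun _ _ => rfl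
  suffices h : MulAction.orbit ↥N (pE 1) = (fun e : Fin 15 => pE (e.val + 1)) '' Set.univ by
    have h1 := (MulAction.stabilizer ↥N (pE 1)).index_dvd_card
    rw [MulAction.index_stabilizer, h, Set.ncard_image_of_injective _ (fun a b e => Fin.ext (by
      have := pE_inj (by omega) (by omega) e; omega)), Set.ncard_univ, Nat.card_fin] at h1
    exact h1
  have hAe : ∀ (c : ↥N) (a : Cz z), a ∈ D.Ae → (c : Cz z) * a * (c : Cz z)⁻¹ ∈ D.Ae := by
    intro c a ha
    obtain ⟨b, hb, e⟩ := (Subgroup.mem_normalizer_iff.mp c.2 _).mp (⟨a, ha, rfl⟩ : (a : G) ∈ D.AG)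
    exact (Subtype.ext e : b = (c : Cz z) * a * (c : Cz z)⁻¹) ▸ hb
  apply Set.Subset.antisymm
  · rintro _ ⟨c, rfl⟩
    obtain ⟨e, he, h⟩ := pE_surj (p := c • pE 1) (by
      rw [hsm, ← (D.aF_spec hR (by norm_num : 1 < 16)).2.1, ← map_mul, ← map_inv, ← map_mul]
      exact (hAe c _ (D.aF_spec hR (by norm_num)).1).1)
    have he0 : e ≠ 0 := by
      rintro rfl
      rw [pE_zero, hsm] at h
      exact absurd (pE_inj (by norm_num) (by norm_num) ((conj_eq_one_iff.mp h.symm).trans pE_zero.symm)) (by norm_num)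
    exact ⟨⟨e - 1, by omega⟩, trivial, by show pE (e - 1 + 1) = _; rw [Nat.sub_add_cancel (by omega), h]⟩
  · rintro _ ⟨e, -, rfl⟩
    obtain ⟨-, htr, hall⟩ := treeE_ok
    have key : ∀ k < 15, pE (treeE.getD k (0, 0, 0)).1 ∈ MulAction.orbit ↥N (pE 1) ∧
        (treeE.getD k (0, 0, 0)).1 < 16 := by
      intro k
      induction k using Nat.strong_induction_on with
      | _ k ih =>
        intro hk
        have h := List.all_eq_true.mp htr k (List.mem_range.mpr hk)
        simp only at h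
        by_cases hk0 : k = 0
        · rw [if_pos hk0] at h
          rw [Nat.eq_of_beq_eq_true h]
          exact ⟨MulAction.mem_orbit_self _, by norm_num⟩
        · rw [if_neg hk0] at h
          simp only [Bool.and_eq_true, Nat.blt_eq] at h
          obtain ⟨⟨hp, hj⟩, hx⟩ := h
          obtain ⟨horb, hy⟩ := ih _ hp (by omega)
          obtain ⟨c, hcA, hc⟩ := D.exists_gen hR hj
          obtain ⟨t, ht⟩ := hc _ hy
          have hg := List.all_eq_true.mp gens_ok _ (List.mem_range.mpr hj)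
          simp only [Bool.and_eq_true] at hg
          have hlt := List.all_eq_true.mp hg.2 _ (List.mem_range.mpr hy)
          simp only [Bool.and_eq_true, Nat.blt_eq] at hlt
          rw [Nat.eq_of_beq_eq_true hx]
          refine ⟨?_, hlt.1.1⟩
          have h1 := congrArg D.th (ht 0 (by norm_num) 0)
          rw [map_mul, map_mul, map_inv, D.el_th hR hy, D.el_th hR hlt.1.1] at h1
          rw [← h1, ← hsm ⟨c, D.mem_norm_of_Cz hcA⟩, ← MulAction.orbit_eq_iff.mpr horb]
          exact MulAction.mem_orbit _ _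
    obtain ⟨x, hx, hxe⟩ := List.any_eq_true.mp
      (List.all_eq_true.mp hall (e.val + 1) (List.mem_range'_1.mpr ⟨by omega, by omega⟩))
    obtain ⟨k, hk, hkx⟩ := List.getElem_of_mem hx
    have h := (key k (treeE_ok.1 ▸ hk)).1
    rwa [List.getD_eq_getElem _ _ hk, hkx, Nat.eq_of_beq_eq_true hxe] at h

/-- The action through M24. -/
theorem exists_tau : ∃ τ : ↥(Subgroup.normalizer (D.AG : Set G)) →* ↥Cfsg.M24, Function.Surjective τ ∧
    τ.ker = D.AG.subgroupOf (Subgroup.normalizer (D.AG : Set G)) ∧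
    ∀ (m : ↥(Subgroup.normalizer (D.AG : Set G))) (p q : Cfsg.GolayPt),
      (m : G) * D.LV hR (vp p + vp q) * (m : G)⁻¹ =
        D.LV hR (vp ((τ m : Perm Cfsg.GolayPt) p) + vp ((τ m : Perm Cfsg.GolayPt) q)) := by
  classical
  set M := Subgroup.normalizer (D.AG : Set G) with hM
  let E : V11 ≃ ↥D.AG := Equiv.ofBijective (fun v => ⟨D.LV hR v, (D.mem_AG_iff hR).mpr ⟨v, rfl⟩⟩)
    ⟨fun u v h => D.LV_inj hR (Subtype.ext_iff.mp h :), fun a => by
      obtain ⟨v, hv⟩ := (D.mem_AG_iff hR).mp a.2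
      exact ⟨v, Subtype.ext hv⟩⟩
  let ρ : ↥M →* Perm V11 :=
    MonoidHom.mk' (fun m => E.trans ((D.AG.normalizerMonoidHom m).toEquiv.trans E.symm)) fun a b =>
      Equiv.ext fun v => by simp [map_mul]
  have hρ : ∀ (m : ↥M) v, D.LV hR (ρ m v) = (m : G) * D.LV hR v * (m : G)⁻¹ := by
    intro m v
    show (E (E.symm (D.AG.normalizerMonoidHom m (E v))) : G) = _
    rw [Equiv.apply_symm_apply]
    rfl
  obtain ⟨τ, hker, hτ⟩ := exists_hom ρ (fun m u v => D.LV_inj hR (by
      rw [hρ, D.LV_add, D.LV_add, hρ, hρ]; group)) (fun m v hv => by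
      obtain ⟨h1, h2⟩ := (D.LV_class hR hset v).mp hv
      refine (D.LV_class hR hset _).mpr ⟨fun e => h1 (D.LV_inj hR ?_), fun e => h2 ?_⟩
      · have h := hρ m v
        rw [e, D.LV_zero, eq_comm, conj_eq_one_iff] at h
        rw [h, D.LV_zero]
      · rw [hρ] at e
        exact e.trans (IsConj.symm (isConj_iff.mpr ⟨(m : G), rfl⟩)))
  have hk : ρ.ker = D.AG.subgroupOf M := by
    rw [← D.centralizer_AG hR, ← Subgroup.normalizerMonoidHom_ker]
    ext m
    simp only [MonoidHom.mem_ker]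
    constructor
    · intro h
      refine MulEquiv.ext fun a => ?_
      have := Equiv.congr_fun h (E.symm a)
      exact E.symm.injective (by simpa [ρ] using this)
    · intro h
      exact Equiv.ext fun v => by simp [ρ, h]
  rw [← hker] at hk
  refine ⟨τ, ?_, hk, fun m p q => by rw [← hτ, hρ]⟩
  rw [← MonoidHom.range_eq_top]
  apply eq_top_of_dvd
  have h1 := Subgroup.card_eq_card_quotient_mul_card_subgroup τ.ker
  rw [Nat.card_congr (QuotientGroup.quotientKerEquivRange τ).toEquiv, hk,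
    Nat.card_congr (Subgroup.subgroupOfEquivOfLe Subgroup.le_normalizer).toEquiv, D.card_AG hR] at h1
  obtain ⟨h2, -⟩ := D.count_dvd hR hset
  rw [(D.class_values hR hset).1] at h2
  have h21 : 2 ^ 21 ∣ Nat.card ↥(M ⊓ Cz z) := D.card_PG hR ▸ Subgroup.card_dvd_of_le
    (le_inf (D.PG_le_norm hR) (Subgroup.map_subtype_le _))
  obtain ⟨k, hk'⟩ := Nat.Coprime.mul_dvd_of_dvd_of_dvd (by norm_num) h21 (D.fifteen_dvd hR hset)
  exact ⟨k, by rw [hk', h1] at h2; omega⟩

end Data

end CfsgLib.Fi24Q
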