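import Cfsg.Agent.Lib.Fi24J.Model
import Cfsg.Agent.Lib.Fi24J.TypesChecks

/-!
An additive numbering of the largest elementary subgroup by numbers below 2048.
-/

set_option autoImplicit false
set_option linter.unusedSectionVars false

namespace CfsgLib.Fi24Q

open Matrix CfsgLib.G24 CfsgLib.SUSixSub Equiv CfsgLib.Fi24J
open scoped commutatorElement

attribute [local irreducible] T0 planeL aList maskA maskB iMaskL gMaskL iWitL oWitL

theorem zb2_xor (a b : Bool) : zb2 (xor a b) = zb2 a + zb2 b := by cases a <;> cases b <;> decide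

theorem zb2_inj {a b : Bool} : zb2 a = zb2 b ↔ a = b := by cases a <;> cases b <;> decide

theorem pE_zero : pE 0 = 1 := if_pos rfl

/-- The class of a set of basis classes. -/
def bitC (e k : ℕ) : ℕ := if e.testBit k then 2 ^ k else 0

theorem bitC_ok : ∀ e < 16, bitC e 0 ^^^ bitC e 1 ^^^ bitC e 2 ^^^ bitC e 3 = e ∧
    ∀ k < 4, bitC e k < 16 ∧ bitC (2 ^ k) k = 2 ^ k ∧ ∀ l < 4, l ≠ k → (2 ^ k).testBit l = false := by decide

variable {G : Type*} [Group G] [Finite G] {z : G} {Q : Subgroup (Cz z)} [hQn : Q.Normal]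

namespace Data

variable (D : Data z Q) (hR : D.R = Sg)

open Classical in
/-- The lifts of the basis classes outside the class of the central involution. -/
noncomputable def bL (k : ℕ) : Cz z :=
  if Zp (D.aF hR (2 ^ k)) then D.aF hR (2 ^ k) * D.zp 1 else D.aF hR (2 ^ k)

/-- A factor. -/
noncomputable def bF (e k : ℕ) : Cz z := if e.testBit k then D.bL hR k else 1

/-- The additive lift of a class. -/
noncomputable def Pr (e : ℕ) : Cz z := D.bF hR e 0 * D.bF hR e 1 * D.bF hR e 2 * D.bF hR e 3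

/-- The additive numbering. -/
noncomputable def Ln (n : ℕ) : Cz z :=
  D.Pr hR (n % 16) * (D.sL (vP (n / 16 % 64)) * D.zp (zb2 (n.testBit 10)))

theorem bF_spec {k : ℕ} (hk : k < 4) (e : ℕ) (he : e < 16) :
    D.bF hR e k ∈ D.Ae ∧ D.th (D.bF hR e k) = pE (bitC e k) ∧ D.x * D.bF hR e k * D.x⁻¹ = D.bF hR e k := by
  have hk' : 2 ^ k < 16 := Nat.pow_lt_pow_right (m := k) (n := 4) (by norm_num) hk
  obtain ⟨h1, h2, h3⟩ := D.aF_spec hR hk'
  have hz : D.zp 1 ∈ D.Ae := D.Kc_Ae (D.zp_Kc 1)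
  unfold bF bitC
  by_cases hb : e.testBit k = true
  · rw [if_pos hb, if_pos hb]
    unfold bL
    split_ifs
    · refine ⟨mul_mem h1 hz, by rw [map_mul, h2, (D.th_ker _).mpr (D.Kc_le (D.zp_Kc 1)), mul_one], ?_⟩
      calc D.x * (D.aF hR (2 ^ k) * D.zp 1) * D.x⁻¹
          = (D.x * D.aF hR (2 ^ k)) * (D.zp 1 * D.x⁻¹) := by group
        _ = (D.x * D.aF hR (2 ^ k) * D.x⁻¹) * D.zp 1 := by rw [← D.zp_comm]; group
        _ = _ := by rw [h3]
    · exact ⟨h1, h2, h3⟩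
  · rw [if_neg hb, if_neg hb]
    exact ⟨one_mem _, by rw [map_one, pE_zero], by group⟩

theorem Pr_spec {e : ℕ} (he : e < 16) :
    D.Pr hR e ∈ D.Ae ∧ D.th (D.Pr hR e) = pE e ∧ D.x * D.Pr hR e * D.x⁻¹ = D.Pr hR e := by
  obtain ⟨a1, b1, c1⟩ := D.bF_spec hR (by norm_num : 0 < 4) e he
  obtain ⟨a2, b2, c2⟩ := D.bF_spec hR (by norm_num : 1 < 4) e he
  obtain ⟨a3, b3, c3⟩ := D.bF_spec hR (by norm_num : 2 < 4) e he
  obtain ⟨a4, b4, c4⟩ := D.bF_spec hR (by norm_num : 3 < 4) e he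
  obtain ⟨hx, hb⟩ := bitC_ok e he
  have l : ∀ k < 4, bitC e k < 16 := fun k hk => (hb k hk).1
  have lx : ∀ a b, a < 16 → b < 16 → a ^^^ b < 16 := fun a b => Nat.xor_lt_two_pow (n := 4)
  refine ⟨mul_mem (mul_mem (mul_mem a1 a2) a3) a4, ?_, ?_⟩
  · rw [Pr, map_mul, map_mul, map_mul, b1, b2, b3, b4, pE_mul (l 0 (by norm_num)) (l 1 (by norm_num)),
      pE_mul (lx _ _ (l 0 (by norm_num)) (l 1 (by norm_num))) (l 2 (by norm_num)),
      pE_mul (lx _ _ (lx _ _ (l 0 (by norm_num)) (l 1 (by norm_num))) (l 2 (by norm_num))) (l 3 (by norm_num)), hx]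
  · calc D.x * D.Pr hR e * D.x⁻¹ = (D.x * D.bF hR e 0 * D.x⁻¹) * (D.x * D.bF hR e 1 * D.x⁻¹) *
          (D.x * D.bF hR e 2 * D.x⁻¹) * (D.x * D.bF hR e 3 * D.x⁻¹) := by rw [Pr]; group
      _ = _ := by rw [c1, c2, c3, c4]; rfl

theorem exists_shift {e : ℕ} (he : e < 16) : ∃ s, D.Pr hR e = D.aF hR e * D.zp s :=
  D.fixed_unique hR (D.aF_spec hR he).1 (D.Pr_spec hR he).1 (by rw [(D.aF_spec hR he).2.1, (D.Pr_spec hR he).2.1])
    (D.aF_spec hR he).2.2 (D.Pr_spec hR he).2.2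

theorem Pr_el {e : ℕ} (he : e < 16) : ∃ s, ∀ w i, D.Pr hR e * (D.sL (vP w) * D.zp i) = D.el hR e w (i + s) := by
  obtain ⟨s, hs⟩ := D.exists_shift hR he
  refine ⟨s, fun w i => ?_⟩
  rw [hs, el, add_comm i s, D.zp_add, mul_assoc, ← mul_assoc (D.zp s), ← D.zp_comm (D.sL (vP w)) s]
  group

theorem Pr_zero : D.Pr hR 0 = 1 := by simp [Pr, bF]

theorem Pr_basis {k : ℕ} (hk : k < 4) : D.Pr hR (2 ^ k) = D.bL hR k := by
  have h : ∀ k < 4, ∀ l < 4, (2 ^ k).testBit l = decide (k = l) := by decide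
  simp only [Pr, bF, h k hk 0 (by norm_num), h k hk 1 (by norm_num), h k hk 2 (by norm_num), h k hk 3 (by norm_num)]
  interval_cases k <;> simp

include hR in
theorem Ae_swap {a b c d : Cz z} (hb : b ∈ D.Ae) (hc : c ∈ D.Ae) : a * b * (c * d) = a * c * (b * d) := by
  rw [mul_assoc, ← mul_assoc b, D.Ae_comm hR hb hc]
  group

theorem bF_xor {k : ℕ} (hk : k < 4) {e f : ℕ} (he : e < 16) :
    D.bF hR (e ^^^ f) k = D.bF hR e k * D.bF hR f k := by
  have h : D.bL hR k ∈ D.Ae := by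
    have hk' : 2 ^ k < 16 := Nat.pow_lt_pow_right (m := k) (n := 4) (by norm_num) hk
    have := (D.bF_spec hR hk (2 ^ k) hk').1
    rwa [bF, if_pos (Nat.testBit_two_pow_self)] at this
  simp only [bF, Nat.testBit_xor]
  cases e.testBit k <;> cases f.testBit k <;> simp [D.Ae_sq hR h]

theorem Pr_xor {e f : ℕ} (he : e < 16) (hf : f < 16) : D.Pr hR (e ^^^ f) = D.Pr hR e * D.Pr hR f := by
  have a := fun k hk => (D.bF_spec hR (k := k) hk e he).1
  have b := fun k hk => (D.bF_spec hR (k := k) hk f hf).1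
  rw [Pr, D.bF_xor hR (by norm_num) he, D.bF_xor hR (by norm_num) he, D.bF_xor hR (by norm_num) he,
    D.bF_xor hR (by norm_num) he, D.Ae_swap hR (b 0 (by norm_num)) (a 1 (by norm_num)),
    D.Ae_swap hR (mul_mem (b 0 (by norm_num)) (b 1 (by norm_num))) (a 2 (by norm_num)),
    D.Ae_swap hR (mul_mem (mul_mem (b 0 (by norm_num)) (b 1 (by norm_num))) (b 2 (by norm_num))) (a 3 (by norm_num))]
  rfl

theorem Ln_mem (n : ℕ) : D.Ln hR n ∈ D.Ae :=
  mul_mem (D.Pr_spec hR (Nat.mod_lt _ (by norm_num))).1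
    (D.Kc_Ae (mul_mem (D.sL_Kc (vP_mem (Nat.mod_lt _ (by norm_num)))) (D.zp_Kc _)))

theorem Ln_xor (n m : ℕ) : D.Ln hR (n ^^^ m) = D.Ln hR n * D.Ln hR m := by
  have h16 : ∀ a : ℕ, a % 16 < 16 := fun a => Nat.mod_lt _ (by norm_num)
  have h64 : ∀ a : ℕ, a / 16 % 64 < 64 := fun a => Nat.mod_lt _ (by norm_num)
  have hK : ∀ a : ℕ, D.sL (vP (a / 16 % 64)) ∈ D.Ae := fun a => D.Kc_Ae (D.sL_Kc (vP_mem (h64 a)))
  have e1 : (n ^^^ m) % 16 = n % 16 ^^^ m % 16 := Nat.xor_mod_two_pow (n := 4)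
  have e2 : (n ^^^ m) / 16 % 64 = (n / 16 % 64) ^^^ (m / 16 % 64) := by
    rw [show (n ^^^ m) / 16 = n / 16 ^^^ m / 16 from Nat.xor_div_two_pow (n := 4)]
    exact Nat.xor_mod_two_pow (n := 6)
  rw [Ln, Ln, Ln, e1, e2, D.Pr_xor hR (h16 n) (h16 m), vP_xor (h64 n) (h64 m),
    D.sL_add (vP_mem (h64 n)) (vP_mem (h64 m)), Nat.testBit_xor, zb2_xor, D.zp_add,
    D.Ae_swap hR (hK m) (D.Kc_Ae (D.zp_Kc _)), D.Ae_swap hR (D.Pr_spec hR (h16 m)).1
      (mul_mem (hK n) (D.Kc_Ae (D.zp_Kc _)))]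

theorem Ln_zero : D.Ln hR 0 = 1 := by
  have h := D.Ln_xor hR 0 0
  rw [Nat.xor_self] at h
  exact left_eq_mul.mp h

theorem Ln_el (n : ℕ) : ∃ s, D.Ln hR n = D.el hR (n % 16) (n / 16 % 64) (zb2 (n.testBit 10) + s) := by
  obtain ⟨s, hs⟩ := D.Pr_el hR (e := n % 16) (Nat.mod_lt _ (by norm_num))
  exact ⟨s, hs _ _⟩

theorem Ln_inj {n m : ℕ} (hn : n < 2048) (hm : m < 2048) (h : D.Ln hR n = D.Ln hR m) : n = m := by
  obtain ⟨s, hs⟩ := D.Pr_el hR (e := n % 16) (Nat.mod_lt _ (by norm_num))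
  obtain ⟨t, ht⟩ := D.Pr_el hR (e := m % 16) (Nat.mod_lt _ (by norm_num))
  have h1 : D.el hR (n % 16) (n / 16 % 64) (zb2 (n.testBit 10) + s) =
      D.el hR (m % 16) (m / 16 % 64) (zb2 (m.testBit 10) + t) := (hs _ _).symm.trans (h.trans (ht _ _))
  obtain ⟨a, b, c⟩ := D.el_inj hR (Nat.mod_lt _ (by norm_num)) (Nat.mod_lt _ (by norm_num))
    (Nat.mod_lt _ (by norm_num)) (Nat.mod_lt _ (by norm_num)) h1
  have hst : s = t := by
    have e1 := hs 0 0
    have e2 := ht 0 0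
    rw [a] at e1
    exact add_left_cancel (D.el_inj hR (Nat.mod_lt _ (by norm_num)) (by norm_num) (Nat.mod_lt _ (by norm_num))
      (by norm_num) (e1.symm.trans e2)).2.2
  subst hst
  have hb := zb2_inj.mp (add_right_cancel c)
  rw [Nat.testBit_eq_decide_div_mod_eq, Nat.testBit_eq_decide_div_mod_eq, decide_eq_decide] at hb
  omega

theorem Ln_surj {a : Cz z} (ha : a ∈ D.Ae) : ∃ n, n < 2048 ∧ D.Ln hR n = a := by
  classical
  let f : Fin 2048 → ↥D.Ae := fun n => ⟨D.Ln hR n.val, D.Ln_mem hR n.val⟩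
  have hf : Function.Bijective f := (Nat.bijective_iff_injective_and_card f).mpr
    ⟨fun a b h => Fin.ext (D.Ln_inj hR a.2 b.2 (congrArg Subtype.val h)), by
      rw [(D.Ae_map hR).2, Nat.card_fin]; norm_num⟩
  obtain ⟨n, hn⟩ := hf.2 ⟨a, ha⟩
  exact ⟨n.val, n.2, congrArg Subtype.val hn⟩

end Data

end CfsgLib.Fi24Q
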