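import Cfsg.Agent.Lib.Fi24J.Coord
import Cfsg.Agent.Lib.Fi24J.ModelData
import Cfsg.Agent.Lib.Fi24J.ToddData

/-!
The coordinates of the largest elementary subgroup: checks.
-/

set_option autoImplicit false
set_option maxRecDepth 30000
set_option maxHeartbeats 4000000
set_option Elab.async false

namespace CfsgLib.Fi24J

open CfsgLib.G24 CfsgLib.SUSixSub CfsgLib.Fi24Q

/-- A plane vector by its coordinates. -/
def pl (w : ℕ) : ℕ := planeL.getD w 0

/-- The map of a class. -/
def eE (e : ℕ) : Elt := if e = 0 then oneE else invE (aList.getD (eIxL.getD e 0) 0)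

/-- The membership of the image of a commutation map. -/
def inI (e w : ℕ) : Bool := (iMaskL.getD e 0).testBit w

/-- Its central bit. -/
def gI (e w : ℕ) : Bool := (gMaskL.getD e 0).testBit w

/-- The bit of a Boolean. -/
def zb2 (b : Bool) : ZMod 2 := if b then 1 else 0

/-- The representatives outside the image. -/
def rep (e : ℕ) : ℕ → ℕ
  | 0 => wRepL.getD e 0
  | k + 1 => smWL.getD (rep e k) 0

/-- The commutation bit of two numbers. -/
def betaN (a b : ℕ) : ZMod 2 := tb (hN a b + hN b a)

/-- The scalar on a number. -/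
def smN (n : ℕ) : ℕ := cdR (SUSixSub.mk fun i => K.mulK .w (rowV (rowN n) i))

/-- A generator of the stabilizer of the plane. -/
def genE (j : ℕ) : Elt := eN (pGens.getD j 0) false

theorem plane_lin : ((List.range 64).all fun a => (List.range 64).all fun b =>
    Nat.beq (addN (pl a) (pl b)) (pl (a ^^^ b)) && Nat.blt (pl a) 4096 &&
      (Nat.beq a b || !Nat.beq (pl a) (pl b))) = true ∧ planeL.length = 64 ∧ pl 0 = 0 := by
  decide +kernel

theorem class_ok : ((List.range 16).all fun a => (List.range 16).all fun b =>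
    beqE (mulE (eE a) (eE b)) (eE (a ^^^ b))) = true ∧
    ((List.range 16).all fun a => Nat.beq a 0 || (Nat.blt (eIxL.getD a 0) 15 &&
      (List.range a).all fun b => Nat.beq b 0 || !Nat.beq (eIxL.getD b 0) (eIxL.getD a 0))) = true := by
  decide +kernel

theorem inside_ok : ((List.range 16).all fun e => (List.range 64).all fun w => !inI e w ||
    (let u := ((iWitL.getD e 0) >>> (12 * w)) % 4096
     Nat.beq (addN (img (eE e) u) u) (pl w) && decide (tb (hN (pl w) u) = zb2 (gI e w)))) = true := by
  decide +kernel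

theorem outside_ok : ((List.range' 1 15).all fun e => (List.range 128).all fun key => inI e (key / 2) ||
    (let t := ((oWitL.getD e 0) >>> (14 * key)) % 16384
     let u := t % 4096
     let r := rep e (t / 4096)
     Nat.blt (t / 4096) 3 && Nat.blt r 64 &&
     Nat.beq (addN (img (eE e) u) u) (pl (key / 2 ^^^ r)) &&
       decide (tb (hN (pl (key / 2 ^^^ r)) u) + betaN u (pl r) = (key % 2 : ℕ)))) = true := by
  decide +kernel

theorem scalar_ok : ((List.range 64).all fun w => Nat.blt (smWL.getD w 0) 64 &&
    Nat.beq (smN (pl w)) (pl (smWL.getD w 0))) = true ∧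
    ((List.range 16).all fun e => Nat.blt (wRepL.getD e 0) 64 && (Nat.beq e 0 || !inI e (wRepL.getD e 0))) = true := by
  decide +kernel

theorem gens_ok : ((List.range 2).all fun j =>
    ((List.range 64).all fun w => Nat.blt ((gWL.getD j []).getD w 0) 64 &&
      Nat.beq (img (genE j) (pl w)) (pl ((gWL.getD j []).getD w 0))) &&
    ((List.range 16).all fun e => Nat.blt ((gEL.getD j []).getD e 0) 16 &&
      beqE (mulE (genE j) (eE e)) (mulE (eE ((gEL.getD j []).getD e 0)) (genE j)) &&
      (Nat.beq e 0 || !inI ((gEL.getD j []).getD e 0) ((gWL.getD j []).getD (wRepL.getD e 0) 0)))) = true := by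
  decide +kernel

theorem treeE_ok : treeE.length = 15 ∧ ((List.range 15).all fun k =>
    let t := treeE.getD k (0, 0, 0)
    if k = 0 then Nat.beq t.1 1 else
      Nat.blt t.2.1 k && Nat.blt t.2.2 2 && Nat.beq t.1 ((gEL.getD t.2.2 []).getD (treeE.getD t.2.1 (0, 0, 0)).1 0)) = true ∧
    ((List.range' 1 15).all fun e => treeE.any fun t => Nat.beq t.1 e) = true := by
  decide +kernel

theorem treeA_ok : treeA.length = 18 ∧ ((List.range 18).all fun k =>
    let t := treeA.getD k (0, 0, 0)
    Nat.blt t.1 64 && maskA.testBit (pl t.1) &&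
    (Nat.beq k 0 || (Nat.blt t.2.1 k && Nat.blt t.2.2 3 &&
      Nat.beq t.1 ((if t.2.2 = 2 then smWL else gWL.getD t.2.2 []).getD (treeA.getD t.2.1 (0, 0, 0)).1 0)))) = true ∧
    ((List.range 64).all fun w => !maskA.testBit (pl w) || treeA.any fun t => Nat.beq t.1 w) = true := by
  decide +kernel

end CfsgLib.Fi24J
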