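import Cfsg.Agent.Lib.Fi24J.ToddData
import Cfsg.Agent.Lib.Golay.Code

/-!
The even cocode of the binary Golay code in coordinates: checks.
-/

set_option autoImplicit false
set_option maxRecDepth 30000
set_option maxHeartbeats 4000000

namespace CfsgLib.Fi24J

open Cfsg CfsgGolay

/-- The value of an index. -/
def valN (i : ℕ) : ℕ := valL.getD i 0

/-- A duad code. -/
def isT (n : ℕ) : Bool := maskT.testBit n

/-- The packed points of a duad code. -/
def pairAt (n : ℕ) : ℕ := (pairN >>> (10 * n)) % 1024

theorem pair_ok : ((List.range 2048).all fun n => !isT n ||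
    (Nat.blt (pairAt n / 24) 24 && Nat.blt (pairAt n % 24) 24 && !Nat.beq (pairAt n / 24) (pairAt n % 24) &&
      Nat.beq (valN (pairAt n / 24) ^^^ valN (pairAt n % 24)) n)) = true ∧
    ((List.range 24).all fun p => (List.range 24).all fun q => Nat.beq p q ||
      (let n := valN p ^^^ valN q
       isT n && ((Nat.beq (pairAt n / 24) p && Nat.beq (pairAt n % 24) q) ||
        (Nat.beq (pairAt n / 24) q && Nat.beq (pairAt n % 24) p)))) = true ∧
    ((List.range 24).all fun p => Nat.blt (valN p) 2048) = true := by
  decide +kernel

theorem four_ok : ((List.range 24).all fun p => (List.range p).all fun q =>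
    (List.range p).all fun r => (List.range r).all fun s => Nat.beq q r || Nat.beq q s ||
      !isT (valN p ^^^ valN q ^^^ valN r ^^^ valN s)) = true := by
  decide +kernel

end CfsgLib.Fi24J
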