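import Cfsg.Agent.Lib.Fi24J.Lift
import Cfsg.Agent.Lib.Fi24J.Fusion

/-!
The two classes on the largest elementary subgroup: numbers and codes.
-/

set_option autoImplicit false
set_option linter.unusedSectionVars false

namespace CfsgLib.Fi24Q

open Matrix CfsgLib.G24 CfsgLib.SUSixSub Equiv CfsgLib.Fi24J
open scoped commutatorElement

attribute [local irreducible] T0 planeL aList maskA maskB iMaskL gMaskL iWitL oWitL otherL maskT

theorem zmod2_cases (a : ZMod 2) : a = 0 ∨ a = 1 := by revert a; decide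

theorem inI_card : ∀ e : Fin 16, e ≠ 0 → (Finset.univ.filter fun w : Fin 64 => inI e.val w.val = true).card = 16 ∧
    (Finset.univ.filter fun w : Fin 64 => ¬ inI e.val w.val = true).card = 48 := by
  decide +kernel

theorem core_count : (∑ w : Fin 64, ∑ i : ZMod 2,
    if (w.val = 0 ∧ i = 1) ∨ (w.val ≠ 0 ∧ maskA.testBit (pl w.val) = false) then 1 else 0) = 91 := by
  decide +kernel

/-- Automorphisms of a group of exponent two of order 2^11. -/
theorem card_mulAut_dvd {W : Type*} [CommGroup W] [Finite W] (hW : ∀ w : W, w * w = 1)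
    (hcard : Nat.card W = 2 ^ 11) :
    Nat.card (MulAut W) ∣ 2 ^ 55 * (1 * 3 * 7 * 15 * 31 * 63 * 127 * 255 * 511 * 1023 * 2047) := by
  classical
  haveI : Fact (Nat.Prime 2) := ⟨Nat.prime_two⟩
  letI : Module (ZMod 2) (Additive W) := AddCommGroup.zmodModule (n := 2) fun x => by
    show Additive.ofMul ((Additive.toMul x) ^ 2) = 0
    rw [pow_two, hW]; rfl
  haveI : Module.Finite (ZMod 2) (Additive W) := Module.Finite.of_finite
  let b := Module.finBasis (ZMod 2) (Additive W)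
  have he : Module.finrank (ZMod 2) (Additive W) = 11 := by
    have h := Nat.card_congr b.equivFun.toEquiv
    rw [Nat.card_fun, Nat.card_zmod, Nat.card_fin, ← Nat.card_congr Additive.ofMul, hcard] at h
    exact (Nat.pow_right_injective le_rfl h).symm
  let l : MulAut W →* (Additive W →ₗ[ZMod 2] Additive W)ˣ :=
    MonoidHom.toHomUnits
      { toFun := fun φ => (MonoidHom.toAdditive (φ : W ≃* W).toMonoidHom).toZModLinearMap 2
        map_one' := LinearMap.ext fun _ => rfl
        map_mul' := fun _ _ => LinearMap.ext fun _ => rfl }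
  have hl : Function.Injective l := fun φ ψ h => MulEquiv.ext fun x =>
    congrArg Additive.toMul (LinearMap.congr_fun (congrArg Units.val h) (Additive.ofMul x) :)
  let m : MulAut W →* GL (Fin (Module.finrank (ZMod 2) (Additive W))) (ZMod 2) :=
    (Units.map (LinearMap.toMatrixAlgEquiv b).toMulEquiv.toMonoidHom).comp l
  have hm : Function.Injective m := fun φ ψ h =>
    hl (Units.ext ((LinearMap.toMatrixAlgEquiv b).injective (congrArg Units.val h)))
  refine (Subgroup.card_dvd_of_injective m hm).trans ?_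
  rw [Matrix.card_GL_field, ZMod.card]
  have key : ∀ n, n = 11 → (∏ i : Fin n, (2 ^ n - 2 ^ i.val)) ∣
      2 ^ 55 * (1 * 3 * 7 * 15 * 31 * 63 * 127 * 255 * 511 * 1023 * 2047) := by
    rintro n rfl
    norm_num [Fin.prod_univ_succ]
  exact key _ he

variable {G : Type*} [Group G] [Finite G] {z : G} {Q : Subgroup (Cz z)} [hQn : Q.Normal]

namespace Data

variable (D : Data z Q) (hR : D.R = Sg)

include hR

theorem gen_class {j : ℕ} (hj : j < 2) {e : ℕ} (he : e < 16) (h0 : e ≠ 0) :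
    (gEL.getD j []).getD e 0 < 16 ∧
    (Zp (D.el hR e (rep e 0) 0) ↔
      Zp (D.el hR ((gEL.getD j []).getD e 0) (rep ((gEL.getD j []).getD e 0) 0) 0)) ∧
    ∃ t, ∀ i, Zp (D.el hR e 0 i) ↔ Zp (D.el hR ((gEL.getD j []).getD e 0) 0 (i + t)) := by
  obtain ⟨c, -, hc⟩ := D.exists_gen hR hj
  obtain ⟨t, ht⟩ := hc e he
  have hg := List.all_eq_true.mp gens_ok j (List.mem_range.mpr hj)
  simp only [Bool.and_eq_true] at hg
  have h := List.all_eq_true.mp hg.2 e (List.mem_range.mpr he)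
  simp only [Bool.and_eq_true, Bool.or_eq_true, Nat.beq_eq, Nat.blt_eq, h0, false_or, Bool.not_eq_true'] at h
  obtain ⟨⟨he', -⟩, hout⟩ := h
  have hw := List.all_eq_true.mp hg.1 (rep e 0) (List.mem_range.mpr (rep_lt he 0))
  simp only [Bool.and_eq_true, Nat.blt_eq] at hw
  refine ⟨he', ?_, t, fun i => ?_⟩
  · rw [← Zp_conj c, ht _ (rep_lt he 0) 0, D.Zp_outside hR he' ((count_ok.2.2.2.1 j hj).2 e he h0) hw.1 hout]
  · rw [← Zp_conj c, ht 0 (by norm_num) i, (count_ok.2.2.2.1 j hj).1]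

/-- The classes of the non-trivial lifts are alike. -/
theorem class_alike {e : ℕ} (he : e < 16) (h0 : e ≠ 0) :
    (Zp (D.el hR e (rep e 0) 0) ↔ Zp (D.el hR 1 (rep 1 0) 0)) ∧
    ∃ t, ∀ i, Zp (D.el hR e 0 i) ↔ Zp (D.el hR 1 0 (i + t)) := by
  obtain ⟨-, htr, hall⟩ := treeE_ok
  have key : ∀ k < 15, let x := (treeE.getD k (0, 0, 0)).1
      x < 16 ∧ x ≠ 0 ∧ (Zp (D.el hR x (rep x 0) 0) ↔ Zp (D.el hR 1 (rep 1 0) 0)) ∧
      ∃ t, ∀ i, Zp (D.el hR x 0 i) ↔ Zp (D.el hR 1 0 (i + t)) := by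
    intro k
    induction k using Nat.strong_induction_on with
    | _ k ih =>
      intro hk
      have h := List.all_eq_true.mp htr k (List.mem_range.mpr hk)
      simp only at h ⊢
      by_cases hk0 : k = 0
      · rw [if_pos hk0] at h
        rw [Nat.eq_of_beq_eq_true h]
        exact ⟨by norm_num, by norm_num, Iff.rfl, 0, fun i => by rw [add_zero]⟩
      · rw [if_neg hk0] at h
        simp only [Bool.and_eq_true, Nat.blt_eq] at h
        obtain ⟨⟨hp, hj⟩, hx⟩ := h
        obtain ⟨hy, hy0, hb, t, ht⟩ := ih _ hp (by omega)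
        obtain ⟨hlt, hb', t', ht'⟩ := D.gen_class hR hj hy hy0
        rw [Nat.eq_of_beq_eq_true hx]
        refine ⟨hlt, (count_ok.2.2.2.1 _ hj).2 _ hy hy0, hb'.symm.trans hb, t + t', fun i => ?_⟩
        rw [← add_assoc, add_right_comm, ← ht, ht' (i + t'), add_assoc i, CharTwo.add_self_eq_zero, add_zero]
  obtain ⟨x, hx, hxe⟩ := List.any_eq_true.mp (List.all_eq_true.mp hall e (List.mem_range'_1.mpr ⟨by omega, by omega⟩))
  obtain ⟨k, hk, hkx⟩ := List.getElem_of_mem hx
  have h := key k (treeE_ok.1 ▸ hk)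
  simp only [List.getD_eq_getElem _ _ hk, hkx, Nat.eq_of_beq_eq_true hxe] at h
  exact h.2.2

/-- The number of conjugates of the central involution in the elementary subgroup. -/
theorem count_Zp (hset : Cfsg.IsExtraspecialCentralizerSetting z Q 6) : ∃ k b : ℕ,
    Nat.card {a : Cz z // a ∈ D.Ae ∧ Zp a} = 91 + 15 * (16 * k + 96 * b) ∧ k < 3 ∧ b < 2 ∧
    (b = 1 → Zp (D.el hR 1 (rep 1 0) 0)) ∧
    (k = 1 → ∀ i, Zp (D.el hR 1 0 (i + 1)) ↔ ¬ Zp (D.el hR 1 0 i)) := by
  classical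
  let o : Prop → ℕ := fun p => if p then 1 else 0
  refine ⟨o (Zp (D.el hR 1 0 0)) + o (Zp (D.el hR 1 0 1)), o (Zp (D.el hR 1 (rep 1 0) 0)), ?_, ?_, ?_, ?_, ?_⟩
  rotate_left
  · show (if _ then 1 else 0) + (if _ then 1 else 0) < 3
    split_ifs <;> norm_num
  · show (if _ then 1 else 0) < 2
    split_ifs <;> norm_num
  · intro h
    by_contra hn
    simp [o, hn] at h
  · intro h i
    rcases zmod2_cases i with rfl | rfl <;>
      by_cases h1 : Zp (D.el hR 1 0 0) <;> by_cases h2 : Zp (D.el hR 1 0 1) <;>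
      simp [o, h1, h2, show (1 : ZMod 2) + 1 = 0 from rfl] at h ⊢
  let f : Fin 16 × Fin 64 × ZMod 2 → Cz z := fun x => D.el hR x.1.val x.2.1.val x.2.2
  have hcard : Nat.card {a : Cz z // a ∈ D.Ae ∧ Zp a} = Nat.card {x : Fin 16 × Fin 64 × ZMod 2 // Zp (f x)} := by
    refine (Nat.card_congr (Equiv.ofBijective
      (fun x => ⟨f x.1, D.el_mem hR x.1.1.2 x.1.2.1.2 x.1.2.2, x.2⟩) ⟨?_, ?_⟩)).symm
    · intro x y h
      obtain ⟨a, b, c⟩ := D.el_inj hR x.1.1.2 x.1.2.1.2 y.1.1.2 y.1.2.1.2 (congrArg Subtype.val h)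
      exact Subtype.ext (Prod.ext (Fin.ext a) (Prod.ext (Fin.ext b) c))
    · rintro ⟨a, ha, hz⟩
      obtain ⟨e, w, i, he, hw, rfl⟩ := D.el_surj hR ha
      exact ⟨⟨(⟨e, he⟩, ⟨w, hw⟩, i), hz⟩, rfl⟩
  rw [hcard, Nat.card_eq_fintype_card, Fintype.card_subtype, Finset.card_filter, Fintype.sum_prod_type,
    Fin.sum_univ_succ (n := 15)]
  refine congrArg₂ (· + ·) ?_ ?_
  · rw [Fintype.sum_prod_type, ← core_count]
    refine Finset.sum_congr rfl fun w _ => Finset.sum_congr rfl fun i _ => ?_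
    exact if_congr (D.Zp_core hR hset w.2 i) rfl rfl
  · rw [Finset.sum_congr rfl fun (j : Fin 15) _ => ?_, Finset.sum_const, Finset.card_univ, Fintype.card_fin,
      smul_eq_mul]
    rw [Fintype.sum_prod_type]
    have he0 : (j.succ : Fin 16).val ≠ 0 := by simp
    obtain ⟨hb, t, ht⟩ := D.class_alike hR j.succ.2 he0
    have hk : ∀ g : ZMod 2, (∑ i : ZMod 2, o (Zp (D.el hR j.succ.val 0 (i + g)))) =
        o (Zp (D.el hR 1 0 0)) + o (Zp (D.el hR 1 0 1)) := fun g => by
      rw [Fintype.sum_equiv (Equiv.addRight g) (fun i => o (Zp (D.el hR j.succ.val 0 (i + g))))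
          (fun i => o (Zp (D.el hR j.succ.val 0 i))) fun i => rfl,
        Fintype.sum_congr _ (fun i => o (Zp (D.el hR 1 0 (i + t)))) fun i => if_congr (ht i) rfl rfl,
        Fintype.sum_equiv (Equiv.addRight t) (fun i => o (Zp (D.el hR 1 0 (i + t))))
          (fun i => o (Zp (D.el hR 1 0 i))) fun i => rfl]
      exact Fin.sum_univ_two _
    have hw : ∀ w : Fin 64, (∑ i : ZMod 2, o (Zp (f (j.succ, w, i)))) =
        if inI (j.succ : Fin 16).val w.val = true then o (Zp (D.el hR 1 0 0)) + o (Zp (D.el hR 1 0 1))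
        else 2 * o (Zp (D.el hR 1 (rep 1 0) 0)) := fun w => by
      split_ifs with hI
      · rw [← hk (zb2 (gI (j.succ : Fin 16).val w.val))]
        refine Finset.sum_congr rfl fun i _ => if_congr ?_ rfl rfl
        rw [← D.Zp_inside hR j.succ.2 w.2 hI, add_assoc, CharTwo.add_self_eq_zero, add_zero]
      · rw [Finset.sum_congr rfl fun i _ => if_congr
          ((D.Zp_outside hR j.succ.2 he0 w.2 (by simpa using hI) i).trans hb) rfl rfl, Finset.sum_const,
          Finset.card_univ, ZMod.card, smul_eq_mul]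
    obtain ⟨c1, c2⟩ := inI_card j.succ (Fin.succ_ne_zero j)
    show ∑ w : Fin 64, ∑ i : ZMod 2, o (Zp (f (j.succ, w, i))) = _
    rw [Finset.sum_congr rfl fun w _ => hw w, Finset.sum_ite, Finset.sum_const, Finset.sum_const, c1, c2,
      smul_eq_mul, smul_eq_mul]
    ring

/-- The number of conjugates divides a known number. -/
theorem count_dvd (hset : Cfsg.IsExtraspecialCentralizerSetting z Q 6) :
    Nat.card {a : Cz z // a ∈ D.Ae ∧ Zp a} *
      Nat.card ↥(Subgroup.normalizer (D.AG : Set G) ⊓ Cz z) = Nat.card ↥(Subgroup.normalizer (D.AG : Set G)) ∧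
    Nat.card ↥(Subgroup.normalizer (D.AG : Set G)) ∣
      2 ^ 11 * 2 ^ 55 * (1 * 3 * 7 * 15 * 31 * 63 * 127 * 255 * 511 * 1023 * 2047) := by
  classical
  set M := Subgroup.normalizer (D.AG : Set G) with hM
  constructor
  · letI act : MulAction ↥M G := MulAction.compHom G ((MulAut.conj (G := G)).comp M.subtype)
    have hsm : ∀ (m : ↥M) (g : G), m • g = (m : G) * g * (m : G)⁻¹ := fun _ _ => rfl
    have hst : MulAction.stabilizer ↥M z = (M ⊓ Cz z).subgroupOf M := by
      ext m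
      rw [MulAction.mem_stabilizer_iff, hsm, Subgroup.mem_subgroupOf, Subgroup.mem_inf,
        Subgroup.mem_centralizer_singleton_iff, mul_inv_eq_iff_eq_mul]
      exact ⟨fun h => ⟨m.2, h⟩, fun h => h.2⟩
    have horb : Nat.card {a : Cz z // a ∈ D.Ae ∧ Zp a} = (MulAction.orbit ↥M z).ncard := by
      rw [← Nat.card_coe_set_eq]
      refine Nat.card_congr (Equiv.ofBijective (fun a => ⟨((a.1 : Cz z) : G), ?_⟩) ⟨?_, ?_⟩)
      · obtain ⟨a, ha, hz⟩ := a
        obtain ⟨g, hg⟩ := isConj_iff.mp (hz : IsConj z (a : G))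
        obtain ⟨m, hm, e⟩ := D.fusion hR D.z_AG (g := g) (hg ▸ ⟨a, ha, rfl⟩)
        exact ⟨⟨m, hm⟩, e.trans hg⟩
      · intro a b h
        exact Subtype.ext (Subtype.ext (congrArg Subtype.val h :))
      · rintro ⟨_, m, rfl⟩
        obtain ⟨b, hb, e⟩ : (m : G) * z * (m : G)⁻¹ ∈ D.AG := (Subgroup.mem_normalizer_iff.mp m.2 z).mp D.z_AG
        refine ⟨⟨b, hb, isConj_iff.mpr ⟨(m : G), e.symm⟩⟩, Subtype.ext e⟩
    have h := (MulAction.stabilizer ↥M z).card_mul_index
    rw [MulAction.index_stabilizer, ← horb, hst,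
      Nat.card_congr (Subgroup.subgroupOfEquivOfLe inf_le_left).toEquiv, mul_comm] at h
    exact h
  · set φ := D.AG.normalizerMonoidHom
    letI : CommGroup ↥D.AG := { (inferInstance : Group ↥D.AG) with
      mul_comm := fun a b => Subtype.ext (D.AG_comm hR a.2 b.2) }
    have h1 := Subgroup.card_eq_card_quotient_mul_card_subgroup φ.ker
    rw [Nat.card_congr (QuotientGroup.quotientKerEquivRange φ).toEquiv] at h1
    have h2 : Nat.card φ.ker = 2 ^ 11 := by
      rw [Subgroup.normalizerMonoidHom_ker, D.centralizer_AG hR,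
        Nat.card_congr (Subgroup.subgroupOfEquivOfLe Subgroup.le_normalizer).toEquiv, D.card_AG hR]
    rw [h1, h2, mul_comm, mul_assoc (2 ^ 11)]
    exact mul_dvd_mul_left _ ((Subgroup.card_subgroup_dvd_card φ.range).trans
      (card_mulAut_dvd (fun w => Subtype.ext (D.AG_sq hR w.2)) (D.card_AG hR)))

/-- Half of the lifts inside the images and all others are conjugate to the central involution. -/
theorem class_values (hset : Cfsg.IsExtraspecialCentralizerSetting z Q 6) :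
    Nat.card {a : Cz z // a ∈ D.Ae ∧ Zp a} = 1771 ∧
    ∀ e, e < 16 → e ≠ 0 → Zp (D.el hR e (rep e 0) 0) ∧
      ∀ i, Zp (D.el hR e 0 (i + 1)) ↔ ¬ Zp (D.el hR e 0 i) := by
  obtain ⟨k, b, hN, hk, hb, hb1, hk1⟩ := D.count_Zp hR hset
  obtain ⟨h1, h2⟩ := D.count_dvd hR hset
  obtain ⟨rfl, rfl⟩ := count_ok.2.2.1 k hk b hb (hN ▸ (Dvd.intro _ h1).trans h2)
  refine ⟨hN, fun e he h0 => ?_⟩
  obtain ⟨ha, t, ht⟩ := D.class_alike hR he h0
  exact ⟨ha.mpr (hb1 rfl), fun i => by rw [ht, ht, add_right_comm]; exact hk1 rfl _⟩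

end Data

end CfsgLib.Fi24Q
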